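import Cfsg.Agent.H601.OddDeg.Defs
import Cfsg.Agent.H979.LieSplit
import Cfsg.Agent.H979.SplitAut
import Mathlib.GroupTheory.SpecificGroups.Alternating

/-!
# `TwoC` for the alternating groups and the groups of Lie type in characteristic 2 (task 355, S4948)

* `twoC_of_comm` : a set `T` of pairwise commuting elements such that all elements commuting with `T` square to `1`;
* `twoC_alt` : `TwoC (alternatingGroup (Fin n))` for `5 ≤ n`;
* `twoC_charTwo` : `TwoC S` for a finite simple group of Lie type in characteristic 2.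
-/

set_option autoImplicit false

namespace Cfsg.Agent.H742.TwoC

open Cfsg Subgroup Cfsg.Agent.H601.OddDeg

/-- A set of pairwise commuting elements whose centralizer has exponent `2`. -/
theorem twoC_of_comm {S : Type*} [Group S] (T : Set S) (h1 : ∀ x ∈ T, ∀ y ∈ T, x * y = y * x)
    (h2 : ∀ g : S, (∀ x ∈ T, x * g = g * x) → g ^ 2 = 1) : TwoC S := by
  have h3 : IsPGroup 2 (centralizer T) := by
    intro g
    refine ⟨1, Subtype.ext ?_⟩
    have := h2 g (fun x hx => mem_centralizer_iff.1 g.2 x hx)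
    simpa using this
  refine ⟨centralizer T, h3, ?_⟩
  intro g
  refine ⟨1, Subtype.ext ?_⟩
  have := h2 g (fun x hx => mem_centralizer_iff.1 g.2 x (mem_centralizer_iff.2 fun y hy => h1 y hy x hx))
  simpa using this

section alt

variable {n : ℕ}

/-- The transposition of `2 * i` and `2 * i + 1`. -/
def tr (i : ℕ) (hi : 2 * i + 1 < n) : Equiv.Perm (Fin n) :=
  Equiv.swap ⟨2 * i, by omega⟩ ⟨2 * i + 1, hi⟩

theorem tr_apply (i : ℕ) (hi : 2 * i + 1 < n) (x : Fin n) : ((tr i hi) x : ℕ) =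
    if (x : ℕ) = 2 * i then 2 * i + 1 else if (x : ℕ) = 2 * i + 1 then 2 * i else (x : ℕ) := by
  unfold tr
  rw [Equiv.swap_apply_def]
  simp only [Fin.ext_iff]
  split_ifs <;> rfl

theorem tr_comm (i j : ℕ) (hi : 2 * i + 1 < n) (hj : 2 * j + 1 < n) : tr i hi * tr j hj = tr j hj * tr i hi := by
  ext x
  simp only [Equiv.Perm.mul_apply, tr_apply]
  split_ifs <;> omega

theorem sign_tr (i : ℕ) (hi : 2 * i + 1 < n) : Equiv.Perm.sign (tr i hi) = -1 := by
  unfold tr
  apply Equiv.Perm.sign_swap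
  simp [Fin.ext_iff]

/-- The products of two of the transpositions. -/
def tset (n : ℕ) : Set (alternatingGroup (Fin n)) :=
  {g | ∃ i j, ∃ (hi : 2 * i + 1 < n) (hj : 2 * j + 1 < n), i ≠ j ∧ (g : Equiv.Perm (Fin n)) = tr i hi * tr j hj}

theorem mem_tset {i j : ℕ} (hi : 2 * i + 1 < n) (hj : 2 * j + 1 < n) (hij : i ≠ j) :
    ∃ g ∈ tset n, (g : Equiv.Perm (Fin n)) = tr i hi * tr j hj := by
  refine ⟨⟨tr i hi * tr j hj, ?_⟩, ⟨i, j, hi, hj, hij, rfl⟩, rfl⟩
  rw [Equiv.Perm.mem_alternatingGroup, map_mul, sign_tr, sign_tr]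
  simp

theorem half_of_ne {i j : ℕ} (hi : 2 * i + 1 < n) (hj : 2 * j + 1 < n) {y : Fin n}
    (h : (tr i hi * tr j hj) y ≠ y) : (y : ℕ) / 2 = i ∨ (y : ℕ) / 2 = j := by
  by_contra hc
  apply h
  ext
  simp only [Equiv.Perm.mul_apply, tr_apply]
  split_ifs <;> omega

theorem ne_of_half {i j : ℕ} (hi : 2 * i + 1 < n) (hj : 2 * j + 1 < n) (hij : i ≠ j) {y : Fin n}
    (h : (y : ℕ) / 2 = i) : (tr i hi * tr j hj) y ≠ y := by
  intro hc
  have := congrArg Fin.val hc
  simp only [Equiv.Perm.mul_apply, tr_apply] at this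
  split_ifs at this <;> omega

theorem half_two {g : Equiv.Perm (Fin n)} {i j : ℕ} (hi : 2 * i + 1 < n) (hj : 2 * j + 1 < n) (hij : i ≠ j)
    (hg : tr i hi * tr j hj * g = g * (tr i hi * tr j hj)) {x : Fin n} (hx : (x : ℕ) / 2 = i) :
    ((g x : Fin n) : ℕ) / 2 = i ∨ ((g x : Fin n) : ℕ) / 2 = j := by
  apply half_of_ne hi hj
  have h1 : (tr i hi * tr j hj) (g x) = g ((tr i hi * tr j hj) x) := by
    rw [← Equiv.Perm.mul_apply, hg, Equiv.Perm.mul_apply]
  rw [h1]
  intro h2
  exact ne_of_half hi hj hij hx (g.injective h2)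

theorem half_apply (hn : 6 ≤ n) {g : Equiv.Perm (Fin n)}
    (hg : ∀ i j (hi : 2 * i + 1 < n) (hj : 2 * j + 1 < n), i ≠ j →
      tr i hi * tr j hj * g = g * (tr i hi * tr j hj)) {x : Fin n} {i : ℕ} (hi : 2 * i + 1 < n)
    (hx : (x : ℕ) / 2 = i) : ((g x : Fin n) : ℕ) / 2 = i := by
  obtain ⟨j, k, hj, hk, hij, hik, hjk⟩ : ∃ j k, 2 * j + 1 < n ∧ 2 * k + 1 < n ∧ i ≠ j ∧ i ≠ k ∧ j ≠ k := by
    by_cases h0 : i = 0
    · exact ⟨1, 2, by omega, by omega, by omega, by omega, by omega⟩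
    · by_cases h1 : i = 1
      · exact ⟨0, 2, by omega, by omega, by omega, by omega, by omega⟩
      · exact ⟨0, 1, by omega, by omega, by omega, by omega, by omega⟩
  have h1 := half_two hi hj hij (hg i j hi hj hij) hx
  have h2 := half_two hi hk hik (hg i k hi hk hik) hx
  omega

theorem half_apply_all (hn : 6 ≤ n) {g : Equiv.Perm (Fin n)}
    (hg : ∀ i j (hi : 2 * i + 1 < n) (hj : 2 * j + 1 < n), i ≠ j →
      tr i hi * tr j hj * g = g * (tr i hi * tr j hj)) (x : Fin n) : ((g x : Fin n) : ℕ) / 2 = (x : ℕ) / 2 := by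
  have hx := x.2
  have hy := (g x).2
  by_cases h1 : 2 * ((x : ℕ) / 2) + 1 < n
  · exact half_apply hn hg h1 rfl
  · by_cases h2 : 2 * (((g x : Fin n) : ℕ) / 2) + 1 < n
    · exfalso
      have hg' : ∀ i j (hi : 2 * i + 1 < n) (hj : 2 * j + 1 < n), i ≠ j →
          tr i hi * tr j hj * g⁻¹ = g⁻¹ * (tr i hi * tr j hj) := by
        intro i j hi hj hij
        have h3 : Commute (tr i hi * tr j hj) g := hg i j hi hj hij
        exact h3.inv_right.eq
      have h4 := half_apply hn hg' h2 (x := g x) rfl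
      have h5 : g⁻¹ (g x) = x := by rw [← Equiv.Perm.mul_apply, inv_mul_cancel, Equiv.Perm.one_apply]
      rw [h5] at h4
      omega
    · omega

theorem sq_eq_one (hn : 6 ≤ n) {g : Equiv.Perm (Fin n)}
    (hg : ∀ i j (hi : 2 * i + 1 < n) (hj : 2 * j + 1 < n), i ≠ j →
      tr i hi * tr j hj * g = g * (tr i hi * tr j hj)) : g * g = 1 := by
  ext x
  rw [Equiv.Perm.mul_apply, Equiv.Perm.one_apply]
  have h1 := half_apply_all hn hg x
  have h2 := half_apply_all hn hg (g x)
  by_cases h3 : g x = x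
  · rw [h3, h3]
  · have h4 : g (g x) ≠ g x := fun h => h3 (g.injective h)
    have h5 : ((g x : Fin n) : ℕ) ≠ (x : ℕ) := fun h => h3 (Fin.ext h)
    have h6 : ((g (g x) : Fin n) : ℕ) ≠ ((g x : Fin n) : ℕ) := fun h => h4 (Fin.ext h)
    omega

theorem twoC_alt_six (hn : 6 ≤ n) : TwoC (alternatingGroup (Fin n)) := by
  apply twoC_of_comm (tset n)
  · rintro x ⟨i, j, hi, hj, -, hx⟩ y ⟨k, l, hk, hl, -, hy⟩
    apply Subtype.ext
    rw [Subgroup.coe_mul, Subgroup.coe_mul, hx, hy]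
    have c1 : Commute (tr i hi) (tr k hk) := tr_comm _ _ _ _
    have c2 : Commute (tr i hi) (tr l hl) := tr_comm _ _ _ _
    have c3 : Commute (tr j hj) (tr k hk) := tr_comm _ _ _ _
    have c4 : Commute (tr j hj) (tr l hl) := tr_comm _ _ _ _
    exact ((c1.mul_right c2).mul_left (c3.mul_right c4)).eq
  · intro g hg
    apply Subtype.ext
    rw [pow_two, Subgroup.coe_mul, Subgroup.coe_one]
    apply sq_eq_one hn
    intro i j hi hj hij
    obtain ⟨x, hx, hx'⟩ := mem_tset hi hj hij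
    have := congrArg Subtype.val (hg x hx)
    rw [Subgroup.coe_mul, Subgroup.coe_mul, hx'] at this
    exact this

/-- `(0 1)(2 3)` -/
def a5 : Equiv.Perm (Fin 5) := Equiv.swap 0 1 * Equiv.swap 2 3
/-- `(0 2)(1 3)` -/
def b5 : Equiv.Perm (Fin 5) := Equiv.swap 0 2 * Equiv.swap 1 3

theorem perm5 : ∀ x : Equiv.Perm (Fin 5), a5 * x = x * a5 → b5 * x = x * b5 → x * x = 1 := by
  decide +kernel

theorem twoC_alt_five : TwoC (alternatingGroup (Fin 5)) := by
  have ha : a5 ∈ alternatingGroup (Fin 5) := by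
    rw [Equiv.Perm.mem_alternatingGroup]; decide +kernel
  have hb : b5 ∈ alternatingGroup (Fin 5) := by
    rw [Equiv.Perm.mem_alternatingGroup]; decide +kernel
  have hab : a5 * b5 = b5 * a5 := by decide +kernel
  apply twoC_of_comm {⟨a5, ha⟩, ⟨b5, hb⟩}
  · intro x hx y hy
    rw [Set.mem_insert_iff, Set.mem_singleton_iff] at hx hy
    apply Subtype.ext
    rcases hx with rfl | rfl <;> rcases hy with rfl | rfl <;> simp [hab]
  · intro g hg
    have h1 := congrArg Subtype.val (hg ⟨a5, ha⟩ (by simp))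
    have h2 := congrArg Subtype.val (hg ⟨b5, hb⟩ (by simp))
    apply Subtype.ext
    rw [pow_two, Subgroup.coe_mul, Subgroup.coe_one]
    exact perm5 _ h1 h2

end alt

/-- The alternating groups satisfy `TwoC`. -/
theorem twoC_alt {n : ℕ} (hn : 5 ≤ n) : TwoC (alternatingGroup (Fin n)) := by
  rcases Nat.lt_or_ge 5 n with h | h
  · exact twoC_alt_six h
  · obtain rfl : n = 5 := by omega
    exact twoC_alt_five

/-- The finite simple groups of Lie type in characteristic 2 satisfy `TwoC`. -/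
theorem twoC_charTwo {S : Type*} [Group S] [Finite S] [IsSimpleGroup S] (h : IsLieTypeChar 2 S) : TwoC S := by
  have hp : Fact (Nat.Prime 2) := ⟨Nat.prime_two⟩
  have hs := H979.LieSplit.hasSplit_of_isLieTypeChar Nat.prime_two h
  let D : Sylow 2 S := default
  refine TwoC.of_odd (D : Subgroup S) D.isPGroup' fun x hx hxD => ?_
  have h1 : MulAut.conj x = 1 := by
    refine H979.SplitAut.eq_one_of_hasSplit hs (MulAut.conj x) ?_ D ?_
    · intro h2
      have h3 : orderOf (MulAut.conj x) ∣ orderOf x := orderOf_map_dvd (MulAut.conj : S →* MulAut S) x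
      exact (Nat.not_even_iff_odd.2 hx) (even_iff_two_dvd.2 (h2.trans h3))
    · intro d hd
      rw [MulAut.conj_apply, ← hxD d hd]
      group
  have hc : x ∈ center S := by
    rw [mem_center_iff]
    intro g
    have h2 : x * g * x⁻¹ = g := by
      have := DFunLike.congr_fun h1 g
      simpa using this
    rw [mul_inv_eq_iff_eq_mul] at h2
    exact h2.symm
  by_contra hx1
  -- otherwise `S` is cyclic of odd order, but it contains a nontrivial `2`-element
  have hN : (zpowers x).Normal := by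
    refine ⟨fun y hy g => ?_⟩
    have hy' : y ∈ center S := (zpowers_le.2 hc) hy
    rw [mem_center_iff.1 hy' g, mul_inv_cancel_right]
    exact hy
  have htop : zpowers x = ⊤ := by
    rcases hN.eq_bot_or_eq_top with h2 | h2
    · exact absurd (zpowers_eq_bot.1 h2) hx1
    · exact h2
  have hcard : Nat.card S = orderOf x := by
    rw [← Nat.card_zpowers, htop, Nat.card_congr (Subgroup.topEquiv (G := S)).toEquiv]
  obtain ⟨P, U, ⟨s, hsS⟩, hS⟩ := hs
  obtain ⟨V, hV⟩ := hS.node s hsS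
  obtain ⟨u, hu, huV⟩ := hV.ne
  have hu1 : u ≠ 1 := fun h2 => huV (h2 ▸ one_mem V)
  obtain ⟨k, hk⟩ := hS.isP ⟨u, hu⟩
  have hk' : u ^ 2 ^ k = 1 := by simpa using congrArg Subtype.val hk
  have h4 : orderOf u ∣ 2 ^ k := orderOf_dvd_of_pow_eq_one hk'
  obtain ⟨m, -, hm⟩ := (Nat.dvd_prime_pow Nat.prime_two).1 h4
  have h5 : orderOf u ∣ Nat.card S := orderOf_dvd_natCard u
  rcases Nat.eq_zero_or_pos m with rfl | hm0
  · exact hu1 (orderOf_eq_one_iff.1 (by simpa using hm))
  · apply Nat.not_even_iff_odd.2 hx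
    rw [even_iff_two_dvd, ← hcard]
    exact ((dvd_pow_self 2 hm0.ne').trans (hm ▸ dvd_refl _)).trans h5

end Cfsg.Agent.H742.TwoC
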