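/-
Images of SL₂ acting on the span of two vectors, and a criterion for a degenerate class of k-root subgroups
(helper742, section 63).
-/
import Cfsg.Agent.H731.SL2Pair
import Cfsg.Agent.H733.RootBasics

set_option autoImplicit false
open Cfsg Matrix

namespace Cfsg.Agent.H742

open Cfsg.Agent.H731 Cfsg.Agent.H733

/-! ### The action of `SL₂` on the span of two vectors -/

section rep

variable {n F L : Type*} [Fintype n] [DecidableEq n] [Field F] [Field L]

/-- the `n × 2` matrix with columns `p`, `r` -/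
def colM (p r : n → F) : Matrix n (Fin 2) F := Matrix.of fun i j => ![p i, r i] j

/-- the `2 × n` matrix with rows `a`, `b` -/
def rowM (a b : n → F) : Matrix (Fin 2) n F := Matrix.of fun i j => ![a j, b j] i

omit [DecidableEq n] in
theorem rowM_mul_colM {p r a b : n → F} (h1 : a ⬝ᵥ p = 1) (h2 : a ⬝ᵥ r = 0) (h3 : b ⬝ᵥ p = 0)
    (h4 : b ⬝ᵥ r = 1) : rowM a b * colM p r = 1 := by
  ext i j
  fin_cases i <;> fin_cases j
  · simpa [rowM, colM, Matrix.mul_apply, dotProduct] using h1
  · simpa [rowM, colM, Matrix.mul_apply, dotProduct] using h2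
  · simpa [rowM, colM, Matrix.mul_apply, dotProduct] using h3
  · simpa [rowM, colM, Matrix.mul_apply, dotProduct] using h4

/-- The matrices `1 + P (g - 1) Q`. -/
def repM (j : L →+* F) (p r a b : n → F) (g : Matrix.SpecialLinearGroup (Fin 2) L) : Matrix n n F :=
  1 + colM p r * (((g : Matrix (Fin 2) (Fin 2) L).map j) - 1) * rowM a b

omit [Fintype n] in
theorem repM_one (j : L →+* F) (p r a b : n → F) : repM j p r a b 1 = 1 := by
  unfold repM
  rw [Matrix.SpecialLinearGroup.coe_one, Matrix.map_one j (map_zero j) (map_one j), sub_self,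
    Matrix.mul_zero, Matrix.zero_mul, add_zero]

theorem repM_mul (j : L →+* F) {p r a b : n → F} (h : rowM a b * colM p r = 1)
    (x y : Matrix.SpecialLinearGroup (Fin 2) L) :
    repM j p r a b (x * y) = repM j p r a b x * repM j p r a b y := by
  unfold repM
  rw [Matrix.SpecialLinearGroup.coe_mul, Matrix.map_mul]
  generalize (x : Matrix (Fin 2) (Fin 2) L).map j = X
  generalize (y : Matrix (Fin 2) (Fin 2) L).map j = Y
  generalize colM p r = P at *
  generalize rowM a b = Q at *
  rw [Matrix.add_mul, Matrix.one_mul, Matrix.mul_add, Matrix.mul_one]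
  have h1 : P * (X - 1) * Q * (P * (Y - 1) * Q) = P * ((X - 1) * (Y - 1)) * Q := by
    calc P * (X - 1) * Q * (P * (Y - 1) * Q) = P * (X - 1) * (Q * P) * (Y - 1) * Q := by
          simp only [Matrix.mul_assoc]
      _ = P * ((X - 1) * (Y - 1)) * Q := by rw [h]; simp only [Matrix.mul_assoc, Matrix.one_mul]
  rw [h1]
  have h2 : X * Y - 1 = (X - 1) + (Y - 1) + (X - 1) * (Y - 1) := by noncomm_ring
  rw [h2, Matrix.mul_add, Matrix.mul_add, Matrix.add_mul, Matrix.add_mul]
  abel

/-- The representation as a monoid homomorphism. -/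
def repHom (j : L →+* F) {p r a b : n → F} (h : rowM a b * colM p r = 1) :
    Matrix.SpecialLinearGroup (Fin 2) L →* Matrix n n F where
  toFun := repM j p r a b
  map_one' := repM_one j p r a b
  map_mul' := repM_mul j h

theorem repHom_injective (j : L →+* F) {p r a b : n → F} (h : rowM a b * colM p r = 1) :
    Function.Injective (repHom j h) := by
  intro x y hxy
  have h1 : repM j p r a b x = repM j p r a b y := hxy
  unfold repM at h1
  have h2 := congrArg (fun M => rowM a b * M * colM p r) h1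
  simp only [Matrix.mul_add, Matrix.add_mul, Matrix.mul_one, add_right_inj] at h2
  have h3 : ∀ X : Matrix (Fin 2) (Fin 2) F,
      rowM a b * (colM p r * X * rowM a b) * colM p r = X := by
    intro X
    calc rowM a b * (colM p r * X * rowM a b) * colM p r
        = (rowM a b * colM p r) * X * (rowM a b * colM p r) := by simp only [Matrix.mul_assoc]
      _ = X := by rw [h, Matrix.one_mul, Matrix.mul_one]
  rw [h3, h3, sub_left_inj] at h2
  apply Subtype.ext
  ext i k
  have h4 := congrFun (congrFun h2 i) k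
  exact j.injective h4

omit [Fintype n] in
theorem repM_up (j : L →+* F) (p r a b : n → F) (c : L) :
    repM j p r a b (up L c) = 1 + j c • vecMulVec p b := by
  unfold repM
  congr 1
  have : ((up L c : Matrix.SpecialLinearGroup (Fin 2) L) : Matrix (Fin 2) (Fin 2) L).map j - 1 =
      !![0, j c; 0, 0] := by
    ext i k
    fin_cases i <;> fin_cases k <;> simp [up]
  rw [this]
  ext i k
  simp [colM, rowM, Matrix.mul_apply, vecMulVec_apply]
  ring

omit [Fintype n] in
theorem repM_lo (j : L →+* F) (p r a b : n → F) (c : L) :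
    repM j p r a b (lo L c) = 1 + j c • vecMulVec r a := by
  unfold repM
  congr 1
  have : ((lo L c : Matrix.SpecialLinearGroup (Fin 2) L) : Matrix (Fin 2) (Fin 2) L).map j - 1 =
      !![0, 0; j c, 0] := by
    ext i k
    fin_cases i <;> fin_cases k <;> simp [lo]
  rw [this]
  ext i k
  simp [colM, rowM, Matrix.mul_apply, vecMulVec_apply]
  ring

/-- **SL₂-pairs from two vectors and two covectors.** -/
theorem isPSL2PairOver_of_rep {H : Type*} [Group H] (j : L →+* F) (ι : H →* Matrix n n F)
    (hι : Function.Injective ι) {p r a b : n → F} (h1 : a ⬝ᵥ p = 1) (h2 : a ⬝ᵥ r = 0)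
    (h3 : b ⬝ᵥ p = 0) (h4 : b ⬝ᵥ r = 1) {A B : Subgroup H}
    (hA : ∀ x ∈ A, ∃ c : L, ι x = 1 + j c • vecMulVec p b)
    (hA' : ∀ c : L, ∃ x ∈ A, ι x = 1 + j c • vecMulVec p b)
    (hB : ∀ x ∈ B, ∃ c : L, ι x = 1 + j c • vecMulVec r a)
    (hB' : ∀ c : L, ∃ x ∈ B, ι x = 1 + j c • vecMulVec r a) : IsPSL2PairOver L A B := by
  have h := rowM_mul_colM h1 h2 h3 h4
  set ψ : Matrix.SpecialLinearGroup (Fin 2) L →* (Matrix n n F)ˣ := (repHom j h).toHomUnits with hψ
  set ι' : H →* (Matrix n n F)ˣ := ι.toHomUnits with hι'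
  have hιinj : Function.Injective ι' := by
    intro x y hxy
    exact hι (congrArg Units.val hxy)
  have hψinj : Function.Injective ψ := by
    intro x y hxy
    exact repHom_injective j h (congrArg Units.val hxy)
  have hup : ∀ c, (ψ (up L c) : Matrix n n F) = 1 + j c • vecMulVec p b := fun c =>
    repM_up j p r a b c
  have hlo : ∀ c, (ψ (lo L c) : Matrix n n F) = 1 + j c • vecMulVec r a := fun c =>
    repM_lo j p r a b c
  have hUA : (upperUnipotentSL2 L).map ψ = A.map ι' := by
    ext x
    constructor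
    · rintro ⟨u, hu, rfl⟩
      obtain ⟨c, rfl⟩ := mem_upper_iff.1 hu
      obtain ⟨y, hy, hyc⟩ := hA' c
      exact ⟨y, hy, Units.ext (hyc.trans (hup c).symm)⟩
    · rintro ⟨y, hy, rfl⟩
      obtain ⟨c, hc⟩ := hA y hy
      exact ⟨up L c, up_mem c, Units.ext ((hup c).trans hc.symm)⟩
  have hLB : (lowerUnipotentSL2 L).map ψ = B.map ι' := by
    ext x
    constructor
    · rintro ⟨u, hu, rfl⟩
      obtain ⟨c, rfl⟩ := mem_lower_iff.1 hu
      obtain ⟨y, hy, hyc⟩ := hB' c
      exact ⟨y, hy, Units.ext (hyc.trans (hlo c).symm)⟩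
    · rintro ⟨y, hy, rfl⟩
      obtain ⟨c, hc⟩ := hB y hy
      exact ⟨lo L c, lo_mem c, Units.ext ((hlo c).trans hc.symm)⟩
  have hrange : ψ.range = (A ⊔ B).map ι' := by
    rw [MonoidHom.range_eq_map, ← lower_sup_upper, Subgroup.map_sup, Subgroup.map_sup, hUA, hLB, sup_comm]
  have hle : ψ.range ≤ ι'.range := by
    rw [hrange]
    exact Subgroup.map_le_range _ _
  let e : H ≃* ι'.range := MonoidHom.ofInjective hιinj
  let φ : Matrix.SpecialLinearGroup (Fin 2) L →* H :=
    e.symm.toMonoidHom.comp ((Subgroup.inclusion hle).comp ψ.rangeRestrict)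
  have hφ : ∀ g, ι' (φ g) = ψ g := by
    intro g
    have : e (φ g) = Subgroup.inclusion hle (ψ.rangeRestrict g) := e.apply_symm_apply _
    have h5 := congrArg Subtype.val this
    exact h5
  have hcomp : ι'.comp φ = ψ := MonoidHom.ext hφ
  refine ⟨φ, ?_, ?_, ?_, ?_⟩
  · apply Subgroup.map_injective hιinj
    rw [← hrange, ← hcomp]
    exact (MonoidHom.range_comp ι' φ).symm
  · have : φ.ker = ⊥ := by
      rw [MonoidHom.ker_eq_bot_iff]
      intro x y hxy
      apply hψinj
      rw [← hφ, ← hφ, hxy]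
    rw [this]
    exact bot_le
  · apply Subgroup.map_injective hιinj
    rw [Subgroup.map_map, hcomp, hUA]
  · apply Subgroup.map_injective hιinj
    rw [Subgroup.map_map, hcomp, hLB]

end rep

/-! ### A criterion for degenerate classes -/

section crit

variable {G : Type*} [Group G] {S : Set (Subgroup G)} {k : Type*} [Field k]

theorem isRootSubgroupSet_of_pairs (hc : ∀ A ∈ S, IsMulCommutative A) (hb : ∀ A ∈ S, A ≠ ⊥)
    (hg : (⨆ A ∈ S, A) = ⊤) (hconj : ∀ A ∈ S, ∀ g : G, conjBy A g ∈ S)
    (hp : ∀ A ∈ S, ∀ B ∈ S, ⁅A, B⁆ = ⊥ ∨ IsPSL2PairOver k A B) : IsRootSubgroupSet S where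
  commutative := hc
  ne_bot := hb
  generates := hg
  conj_mem := hconj
  pair A hA B hB := by
    rcases hp A hA B hB with h | h
    · exact Or.inl h
    · exact Or.inr (Or.inl (isRankOnePair_of_isPSL2PairOver h))

/-- A rank one pair does not commute elementwise. -/
theorem rankOne_commutator_ne_bot {A B : Subgroup G} (h : IsRankOnePair A B) : ⁅A, B⁆ ≠ ⊥ := by
  intro h0
  rw [commutator_eq_bot_iff_forall] at h0
  obtain ⟨a, ha, ha1⟩ := rankOne_exists_left h
  exact ha1 (rankOne_eq_one h ha (conjBy_of_commute (fun b hb => h0 a ha b hb)))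

/-- **Criterion for a degenerate class of abstract `k`-root subgroups with connected rank one graph.** -/
theorem degenerate_class (hne : S.Nonempty) (hc : ∀ A ∈ S, IsMulCommutative A) (hb : ∀ A ∈ S, A ≠ ⊥)
    (hg : (⨆ A ∈ S, A) = ⊤) (hconj : ∀ A ∈ S, ∀ g : G, conjBy A g ∈ S)
    (hp : ∀ A ∈ S, ∀ B ∈ S, ⁅A, B⁆ = ⊥ ∨ IsPSL2PairOver k A B)
    (hcon : IsConnectedFamily (FAdj S) S) :
    IsRootSubgroupClass S ∧ IsDegenerateRootSet S ∧ IsKRootSubgroupSet k S ∧
      IsConnectedFamily (FAdj S) S := by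
  have hS := isRootSubgroupSet_of_pairs hc hb hg hconj hp
  refine ⟨⟨hS, hne, ?_⟩, ?_, ⟨hS, ?_⟩, hcon⟩
  · intro A hA B hB
    exact reach_exists_conj' (hcon A hA B hB)
  · intro A hA B hB h
    rcases hp A hA B hB with h0 | h0
    · exact rcc_not_commute hS h h0
    · exact rankOne_not_rcc hS hB (isRankOnePair_of_isPSL2PairOver h0) h
  · intro A hA B hB h
    rcases hp A hA B hB with h0 | h0
    · exact absurd h0 (rankOne_commutator_ne_bot h)
    · exact h0

end crit

end Cfsg.Agent.H742
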