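/-
Quadratic pairs: opposite and unipotent pairs of minimal root vectors (helper742, section 63).
`Core G` packages the two interface theorems T1, T2.
-/
import Cfsg.Agent.H740.Quad

set_option autoImplicit false
open Cfsg

namespace Cfsg.Agent.H742

open Cfsg.Agent.H740

variable {k : Type*} [Field k] {M : Type*} [AddCommGroup M] [Module k M]

/-! ### The flag stabiliser -/

/-- The unipotent group stabilising `0 ≤ V₂ ≤ V₁ ≤ M`. -/
def flagStab {V₁ V₂ : Submodule k M} (h : V₂ ≤ V₁) : Subgroup (LinearMap.GeneralLinearGroup k M) where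
  carrier := {g | (∀ m : M, (g : M →ₗ[k] M) m - m ∈ V₁) ∧ (∀ m ∈ V₁, (g : M →ₗ[k] M) m - m ∈ V₂) ∧
    ∀ m ∈ V₂, (g : M →ₗ[k] M) m = m}
  one_mem' := by
    refine ⟨fun m => ?_, fun m _ => ?_, fun m _ => ?_⟩
    · rw [Units.val_one, Module.End.one_apply, sub_self]; exact V₁.zero_mem
    · rw [Units.val_one, Module.End.one_apply, sub_self]; exact V₂.zero_mem
    · rw [Units.val_one, Module.End.one_apply]
  mul_mem' := by
    rintro a b ⟨ha1, ha2, ha3⟩ ⟨hb1, hb2, hb3⟩
    have key : ∀ m : M, ((a * b : LinearMap.GeneralLinearGroup k M) : M →ₗ[k] M) m - m =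
        ((a : M →ₗ[k] M) ((b : M →ₗ[k] M) m) - (b : M →ₗ[k] M) m) + ((b : M →ₗ[k] M) m - m) := by
      intro m
      rw [Units.val_mul, Module.End.mul_apply]
      abel
    refine ⟨fun m => ?_, fun m hm => ?_, fun m hm => ?_⟩
    · rw [key]
      exact V₁.add_mem (ha1 _) (hb1 _)
    · rw [key]
      have hbm : (b : M →ₗ[k] M) m ∈ V₁ := by
        have := V₁.add_mem (hb1 m) hm
        rwa [sub_add_cancel] at this
      exact V₂.add_mem (ha2 _ hbm) (hb2 _ hm)
    · rw [Units.val_mul, Module.End.mul_apply, hb3 m hm, ha3 m hm]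
  inv_mem' := by
    rintro a ⟨ha1, ha2, ha3⟩
    have hinv : ∀ m : M, (a : M →ₗ[k] M) (((a⁻¹ : LinearMap.GeneralLinearGroup k M) : M →ₗ[k] M) m) = m := by
      intro m
      rw [← Module.End.mul_apply, Units.mul_inv, Module.End.one_apply]
    refine ⟨fun m => ?_, fun m hm => ?_, fun m hm => ?_⟩
    · have h1 := ha1 (((a⁻¹ : LinearMap.GeneralLinearGroup k M) : M →ₗ[k] M) m)
      rw [hinv] at h1
      have := V₁.neg_mem h1
      rwa [neg_sub] at this
    · have h1 := ha1 (((a⁻¹ : LinearMap.GeneralLinearGroup k M) : M →ₗ[k] M) m)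
      rw [hinv] at h1
      have h2 : ((a⁻¹ : LinearMap.GeneralLinearGroup k M) : M →ₗ[k] M) m ∈ V₁ := by
        have := V₁.sub_mem hm h1
        rwa [sub_sub_cancel] at this
      have h3 := ha2 _ h2
      rw [hinv] at h3
      have := V₂.neg_mem h3
      rwa [neg_sub] at this
    · have h1 := ha1 (((a⁻¹ : LinearMap.GeneralLinearGroup k M) : M →ₗ[k] M) m)
      rw [hinv] at h1
      have h2 : ((a⁻¹ : LinearMap.GeneralLinearGroup k M) : M →ₗ[k] M) m ∈ V₁ := by
        have := V₁.sub_mem (h hm) h1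
        rwa [sub_sub_cancel] at this
      have h3 := ha2 _ h2
      rw [hinv] at h3
      have h4 : ((a⁻¹ : LinearMap.GeneralLinearGroup k M) : M →ₗ[k] M) m ∈ V₂ := by
        have := V₂.sub_mem hm h3
        rwa [sub_sub_cancel] at this
      have h5 := ha3 _ h4
      rw [hinv] at h5
      exact h5.symm

theorem mem_flagStab {V₁ V₂ : Submodule k M} {h : V₂ ≤ V₁} {g : LinearMap.GeneralLinearGroup k M} :
    g ∈ flagStab h ↔ (∀ m : M, (g : M →ₗ[k] M) m - m ∈ V₁) ∧ (∀ m ∈ V₁, (g : M →ₗ[k] M) m - m ∈ V₂) ∧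
    ∀ m ∈ V₂, (g : M →ₗ[k] M) m = m := Iff.rfl

theorem coeList_eq (l : List (LinearMap.GeneralLinearGroup k M)) :
    ((do let a ← l; pure (a : M →ₗ[k] M)) : List (M →ₗ[k] M)) =
      List.map (fun a : LinearMap.GeneralLinearGroup k M => (a : M →ₗ[k] M)) l := by
  induction l with
  | nil => rfl
  | cons a l ih =>
    rw [List.map_cons, ← ih]
    rfl

/-- `IsUnipotentOn` in terms of products over lists. -/
theorem isUnipotentOn_def {H : Subgroup (LinearMap.GeneralLinearGroup k M)} :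
    IsUnipotentOn H ↔ ∃ n : ℕ, ∀ l : List (LinearMap.GeneralLinearGroup k M), (∀ g ∈ l, g ∈ H) → l.length = n →
      (l.map (fun g : LinearMap.GeneralLinearGroup k M => (g : M →ₗ[k] M) - 1)).prod = 0 := by
  unfold IsUnipotentOn
  simp only [coeList_eq, List.map_map]
  rfl

theorem isUnipotentOn_of_le_flagStab {V₁ V₂ : Submodule k M} {h : V₂ ≤ V₁}
    {H : Subgroup (LinearMap.GeneralLinearGroup k M)} (hH : H ≤ flagStab h) : IsUnipotentOn H := by
  rw [isUnipotentOn_def]
  refine ⟨3, ?_⟩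
  intro l hl hlen
  obtain ⟨a, b, c, rfl⟩ := List.length_eq_three.1 hlen
  obtain ⟨ha1, ha2, ha3⟩ := hH (hl a (by simp))
  obtain ⟨hb1, hb2, hb3⟩ := hH (hl b (by simp))
  obtain ⟨hc1, hc2, hc3⟩ := hH (hl c (by simp))
  ext m
  simp only [List.map_cons, List.map_nil, List.prod_cons, List.prod_nil, mul_one, Module.End.mul_apply,
    LinearMap.sub_apply, Module.End.one_apply, LinearMap.zero_apply]
  rw [sub_eq_zero]
  exact ha3 _ (hb2 _ (hc1 _))

/-! ### Words and unipotency -/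

theorem pow_mul_eq_prod (x y : M →ₗ[k] M) (n : ℕ) :
    (x * y) ^ n = ((List.replicate n [x, y]).flatten).prod := by
  induction n with
  | zero => simp
  | succ n ih =>
    rw [pow_succ', ih, List.replicate_succ, List.flatten_cons, List.prod_append]
    simp

/-- In a unipotent group, products of two `g - 1` are nilpotent. -/
theorem isNilpotent_of_isUnipotentOn {H : Subgroup (LinearMap.GeneralLinearGroup k M)}
    (h : IsUnipotentOn H) {a b : LinearMap.GeneralLinearGroup k M} (ha : a ∈ H) (hb : b ∈ H) :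
    IsNilpotent (((a : M →ₗ[k] M) - 1) * ((b : M →ₗ[k] M) - 1)) := by
  obtain ⟨n, hn⟩ := isUnipotentOn_def.1 h
  refine ⟨n, ?_⟩
  set l : List (LinearMap.GeneralLinearGroup k M) := (List.replicate n [a, b]).flatten with hl
  have h1 : (((a : M →ₗ[k] M) - 1) * ((b : M →ₗ[k] M) - 1)) ^ n =
      (l.map (fun g : LinearMap.GeneralLinearGroup k M => (g : M →ₗ[k] M) - 1)).prod := by
    rw [pow_mul_eq_prod, hl, List.map_flatten, List.map_replicate]
    rfl
  have hmem : ∀ g ∈ l, g ∈ H := by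
    intro g hg
    rw [hl, List.mem_flatten] at hg
    obtain ⟨t, ht, hgt⟩ := hg
    rw [List.mem_replicate] at ht
    rw [ht.2] at hgt
    simp only [List.mem_cons, List.not_mem_nil, or_false] at hgt
    rcases hgt with rfl | rfl
    · exact ha
    · exact hb
  have hlen : l.length = n * 2 := by
    rw [hl]
    simp
  rw [h1, ← List.take_append_drop n l, List.map_append, List.prod_append, hn (l.take n) ?_ ?_, zero_mul]
  · intro g hg
    exact hmem g (List.mem_of_mem_take hg)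
  · rw [List.length_take, hlen]
    omega

/-! ### Ring identities for opposite pairs -/

theorem isNilpotent_mul_comm {R : Type*} [Ring R] {x y : R} (h : IsNilpotent (x * y)) : IsNilpotent (y * x) := by
  obtain ⟨n, hn⟩ := h
  refine ⟨n + 1, ?_⟩
  have key : ∀ n, (y * x) ^ (n + 1) = y * (x * y) ^ n * x := by
    intro n
    induction n with
    | zero => simp
    | succ n ih => rw [pow_succ, ih, pow_succ]; simp only [mul_assoc]
  rw [key, hn, mul_zero, zero_mul]

theorem isNilpotent_mul_comm_iff {R : Type*} [Ring R] {x y : R} : IsNilpotent (x * y) ↔ IsNilpotent (y * x) :=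
  ⟨isNilpotent_mul_comm, isNilpotent_mul_comm⟩

/-- `s` and `t` have the same kernel and the same range. -/
def Same (s t : M →ₗ[k] M) : Prop := LinearMap.ker s = LinearMap.ker t ∧ LinearMap.range s = LinearMap.range t

theorem Same.refl (s : M →ₗ[k] M) : Same s s := ⟨rfl, rfl⟩
theorem Same.symm {s t : M →ₗ[k] M} (h : Same s t) : Same t s := ⟨h.1.symm, h.2.symm⟩
theorem Same.trans {s t u : M →ₗ[k] M} (h : Same s t) (h' : Same t u) : Same s u :=
  ⟨h.1.trans h'.1, h.2.trans h'.2⟩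

theorem range_le_ker_of_mul {s t : M →ₗ[k] M} (h : s * t = 0) : LinearMap.range t ≤ LinearMap.ker s := by
  rintro _ ⟨m, rfl⟩
  rw [LinearMap.mem_ker, ← Module.End.mul_apply, h, LinearMap.zero_apply]

theorem mul_of_range_le_ker {s t : M →ₗ[k] M} (h : LinearMap.range t ≤ LinearMap.ker s) : s * t = 0 := by
  ext m
  rw [Module.End.mul_apply, LinearMap.zero_apply]
  exact h ⟨m, rfl⟩

theorem mul_eq_zero_iff_range_le {s t : M →ₗ[k] M} : s * t = 0 ↔ LinearMap.range t ≤ LinearMap.ker s :=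
  ⟨range_le_ker_of_mul, mul_of_range_le_ker⟩

theorem same_mul_eq_zero {s s' t t' : M →ₗ[k] M} (hs : Same s s') (ht : Same t t') (h : s * t = 0) : s' * t' = 0 := by
  rw [mul_eq_zero_iff_range_le] at h ⊢
  rwa [← hs.1, ← ht.2]

/-- `s t s = 0` implies `s' t s'' = 0` for `s', s''` in the class of `s`. -/
theorem same_sts {s s' s'' t : M →ₗ[k] M} (hs : Same s s') (hs' : Same s s'') (h : s * t * s = 0) :
    s' * t * s'' = 0 := by
  ext m
  have h1 : s'' m ∈ LinearMap.range s := by rw [hs'.2]; exact ⟨m, rfl⟩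
  obtain ⟨y, hy⟩ := h1
  have h2 : t (s'' m) ∈ LinearMap.ker s := by
    rw [LinearMap.mem_ker, ← hy]
    have := congrArg (fun f : M →ₗ[k] M => f y) h
    simpa using this
  rw [hs.1] at h2
  simpa using h2

/-- `(s, t)` is an inverse pair. -/
structure Inv (s t : M →ₗ[k] M) : Prop where
  ss : s * s = 0
  tt : t * t = 0
  sts : s * t * s = s
  tst : t * s * t = t

theorem Inv.symm {s t : M →ₗ[k] M} (h : Inv s t) : Inv t s := ⟨h.tt, h.ss, h.tst, h.sts⟩

theorem Inv.inf_eq_bot {s t : M →ₗ[k] M} (h : Inv s t) : LinearMap.range s ⊓ LinearMap.ker t = ⊥ := by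
  rw [Submodule.eq_bot_iff]
  rintro x ⟨⟨y, rfl⟩, hx⟩
  have hx' : t (s y) = 0 := hx
  have := congrArg (fun f : M →ₗ[k] M => f y) h.sts
  simp only [Module.End.mul_apply] at this
  rw [← this, hx', map_zero]

theorem Inv.sup_eq_top {s t : M →ₗ[k] M} (h : Inv s t) : LinearMap.range s ⊔ LinearMap.ker t = ⊤ := by
  rw [eq_top_iff]
  intro x _
  rw [Submodule.mem_sup]
  refine ⟨s (t x), ⟨t x, rfl⟩, x - s (t x), ?_, by abel⟩
  rw [LinearMap.mem_ker, map_sub]
  have := congrArg (fun f : M →ₗ[k] M => f x) h.tst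
  simp only [Module.End.mul_apply] at this
  rw [this, sub_self]

theorem Inv.isCompl {s t : M →ₗ[k] M} (h : Inv s t) : IsCompl (LinearMap.range s) (LinearMap.ker t) :=
  IsCompl.of_eq h.inf_eq_bot h.sup_eq_top

/-- disjointness criterion for non-nilpotency -/
theorem not_isNilpotent_of_inf_eq_bot {s t : M →ₗ[k] M} (hs : s ≠ 0)
    (h1 : LinearMap.range s ⊓ LinearMap.ker t = ⊥) (h2 : LinearMap.range t ⊓ LinearMap.ker s = ⊥) :
    ¬ IsNilpotent (s * t) := by
  have step : ∀ y, s (t (s y)) = 0 → s y = 0 := by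
    intro y hy
    have h3 : t (s y) ∈ LinearMap.range t ⊓ LinearMap.ker s := ⟨⟨s y, rfl⟩, hy⟩
    rw [h2, Submodule.mem_bot] at h3
    have h4 : s y ∈ LinearMap.range s ⊓ LinearMap.ker t := ⟨⟨y, rfl⟩, h3⟩
    rwa [h1, Submodule.mem_bot] at h4
  rintro ⟨n, hn⟩
  apply hs
  have key : ∀ n : ℕ, ∀ y, ((s * t) ^ n) (s y) = 0 → s y = 0 := by
    intro n
    induction n with
    | zero => intro y hy; simpa using hy
    | succ n ih =>
      intro y hy
      rw [pow_succ, Module.End.mul_apply] at hy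
      have h5 : ((s * t) ^ n) (s (t (s y))) = 0 := hy
      exact step y (ih _ h5)
  ext y
  rw [LinearMap.zero_apply]
  apply key n y
  rw [hn, LinearMap.zero_apply]

theorem Inv.not_isNilpotent {s t : M →ₗ[k] M} (h : Inv s t) (hs : s ≠ 0) : ¬ IsNilpotent (s * t) :=
  not_isNilpotent_of_inf_eq_bot hs h.inf_eq_bot h.symm.inf_eq_bot

/-- The projection property: `s t` is the identity on `range s`. -/
theorem Inv.st_mul {s t : M →ₗ[k] M} (h : Inv s t) {x : M →ₗ[k] M}
    (hx : LinearMap.range x ≤ LinearMap.range s) : s * t * x = x := by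
  ext m
  obtain ⟨y, hy⟩ := hx ⟨m, rfl⟩
  have := congrArg (fun f : M →ₗ[k] M => f y) h.sts
  simp only [Module.End.mul_apply] at this ⊢
  rw [← hy, this]

theorem Inv.mul_st {s t : M →ₗ[k] M} (h : Inv s t) {x : M →ₗ[k] M}
    (hx : LinearMap.ker t ≤ LinearMap.ker x) : x * (s * t) = x := by
  ext m
  have h1 : m - s (t m) ∈ LinearMap.ker t := by
    rw [LinearMap.mem_ker, map_sub]
    have := congrArg (fun f : M →ₗ[k] M => f m) h.tst
    simp only [Module.End.mul_apply] at this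
    rw [this, sub_self]
  have h2 := hx h1
  rw [LinearMap.mem_ker, map_sub, sub_eq_zero] at h2
  simp only [Module.End.mul_apply]
  exact h2.symm

/-! ### The interface -/

/-- The two interface theorems T1, T2 (minimal case) on quadratic elements of `G`. -/
structure Core (G : Subgroup (LinearMap.GeneralLinearGroup k M)) : Prop where
  t1 : ∀ {s r : M →ₗ[k] M}, IsMin G s → QIn G r → IsNilpotent (s * r) → s * r * s = 0
  t2 : ∀ {s r : M →ₗ[k] M}, IsMin G s → IsMin G r → ¬ IsNilpotent (s * r) →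
    ∃ t, IsMin G t ∧ Same t r ∧ s * t * s = s ∧ t * s * t = t

variable {G : Subgroup (LinearMap.GeneralLinearGroup k M)}

theorem Core.inv (hC : Core G) {s r : M →ₗ[k] M} (hs : IsMin G s) (hr : IsMin G r)
    (h : ¬ IsNilpotent (s * r)) : ∃ t, IsMin G t ∧ Same t r ∧ Inv s t := by
  obtain ⟨t, ht, htr, h1, h2⟩ := hC.t2 hs hr h
  exact ⟨t, ht, htr, ⟨hs.sq, ht.sq, h1, h2⟩⟩

/-- For minimal vectors, being opposite depends only on the classes. -/
theorem Core.not_isNilpotent_iff (hC : Core G) {s r : M →ₗ[k] M} (hs : IsMin G s) (hr : IsMin G r) :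
    ¬ IsNilpotent (s * r) ↔ LinearMap.range s ⊓ LinearMap.ker r = ⊥ ∧ LinearMap.range r ⊓ LinearMap.ker s = ⊥ := by
  constructor
  · intro h
    obtain ⟨t, ht, htr, hi⟩ := hC.inv hs hr h
    rw [← htr.1, ← htr.2]
    exact ⟨hi.inf_eq_bot, hi.symm.inf_eq_bot⟩
  · rintro ⟨h1, h2⟩
    exact not_isNilpotent_of_inf_eq_bot hs.ne_zero h1 h2

theorem Core.not_isNilpotent_congr (hC : Core G) {s r s' r' : M →ₗ[k] M} (hs : IsMin G s) (hr : IsMin G r)
    (hs' : IsMin G s') (hr' : IsMin G r') (h1 : Same s s') (h2 : Same r r') :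
    IsNilpotent (s * r) ↔ IsNilpotent (s' * r') := by
  rw [← not_iff_not, hC.not_isNilpotent_iff hs hr, hC.not_isNilpotent_iff hs' hr', h1.1, h1.2, h2.1, h2.2]

/-! ### Classes as subspaces -/

/-- The vectors `x` with `1 + x` in the root group of `s`. -/
def cl (G : Subgroup (LinearMap.GeneralLinearGroup k M)) (s : M →ₗ[k] M) : Set (M →ₗ[k] M) :=
  {x | QIn G x ∧ LinearMap.ker s ≤ LinearMap.ker x ∧ LinearMap.range x ≤ LinearMap.range s}

theorem mem_cl {s x : M →ₗ[k] M} :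
    x ∈ cl G s ↔ QIn G x ∧ LinearMap.ker s ≤ LinearMap.ker x ∧ LinearMap.range x ≤ LinearMap.range s := Iff.rfl

/-- two elements in the class of a square zero vector have product zero -/
theorem cl_mul {s x y : M →ₗ[k] M} (hs : s * s = 0) (hx : x ∈ cl G s) (hy : y ∈ cl G s) : x * y = 0 :=
  mul_of_range_le_ker ((hy.2.2.trans (range_le_ker_of_mul hs)).trans hx.2.1)

/-- The class of `s` as a subspace. -/
def clS (G : Subgroup (LinearMap.GeneralLinearGroup k M)) (s : M →ₗ[k] M) (hs : s * s = 0) :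
    Submodule k (M →ₗ[k] M) where
  carrier := cl G s
  zero_mem' := ⟨QIn.zero G, by rw [LinearMap.ker_zero]; exact le_top, by rw [LinearMap.range_zero]; exact bot_le⟩
  add_mem' := by
    intro a b ha hb
    refine ⟨ha.1.add hb.1 (cl_mul hs ha hb) (cl_mul hs hb ha), ?_, ?_⟩
    · intro m hm
      rw [LinearMap.mem_ker, LinearMap.add_apply, LinearMap.mem_ker.1 (ha.2.1 hm),
        LinearMap.mem_ker.1 (hb.2.1 hm), add_zero]
    · rintro _ ⟨m, rfl⟩
      rw [LinearMap.add_apply]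
      exact Submodule.add_mem _ (ha.2.2 ⟨m, rfl⟩) (hb.2.2 ⟨m, rfl⟩)
  smul_mem' := by
    intro c a ha
    refine ⟨ha.1.smul c, ?_, ?_⟩
    · intro m hm
      rw [LinearMap.mem_ker, LinearMap.smul_apply, LinearMap.mem_ker.1 (ha.2.1 hm), smul_zero]
    · rintro _ ⟨m, rfl⟩
      rw [LinearMap.smul_apply]
      exact Submodule.smul_mem _ _ (ha.2.2 ⟨m, rfl⟩)

theorem mem_clS {s x : M →ₗ[k] M} {hs : s * s = 0} : x ∈ clS G s hs ↔ x ∈ cl G s := Iff.rfl

theorem self_mem_cl {s : M →ₗ[k] M} (hs : QIn G s) : s ∈ cl G s := ⟨hs, le_rfl, le_rfl⟩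

theorem cl_congr {s t : M →ₗ[k] M} (h : Same s t) : cl G s = cl G t := by
  ext x
  rw [mem_cl, mem_cl, h.1, h.2]

variable [FiniteDimensional k M]

theorem same_of_mem_cl {s x : M →ₗ[k] M} (hs : IsMin G s) (hx : x ∈ cl G s) (hx0 : x ≠ 0) : Same x s :=
  ⟨hs.ker_eq hx.1 hx0 hx.2.1, hs.range_eq hx.1 hx0 hx.2.2⟩

theorem isMin_of_mem_cl {s x : M →ₗ[k] M} (hs : IsMin G s) (hx : x ∈ cl G s) (hx0 : x ≠ 0) : IsMin G x :=
  hs.of_ker_le hx.1 hx0 hx.2.1

/-- membership in `E(σ)` -/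
theorem mem_E_iff {σ τ : LinearMap.GeneralLinearGroup k M} (hσ : σ ∈ minimalQuadraticElements G) :
    τ ∈ sameActionSubgroup G σ ↔ (τ : M →ₗ[k] M) - 1 ∈ cl G ((σ : M →ₗ[k] M) - 1) :=
  mem_sameActionSubgroup_iff hσ

omit [FiniteDimensional k M] in
theorem sub_one_ne_zero {τ : LinearMap.GeneralLinearGroup k M} : (τ : M →ₗ[k] M) - 1 ≠ 0 ↔ τ ≠ 1 := by
  rw [not_iff_not, sub_eq_zero]
  constructor
  · intro h; exact Units.ext h
  · rintro rfl; rfl

theorem oneAdd_mem_E {σ : LinearMap.GeneralLinearGroup k M} (hσ : σ ∈ minimalQuadraticElements G)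
    {x : M →ₗ[k] M} (hx : x ∈ cl G ((σ : M →ₗ[k] M) - 1)) : oneAdd x hx.1.1 ∈ sameActionSubgroup G σ := by
  rw [mem_E_iff hσ, coe_oneAdd, add_sub_cancel_left]
  exact hx

end Cfsg.Agent.H742
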