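/-
Quadratic pairs: two root groups generate a unipotent group or a special rank one group (S5065) (helper742).
-/
import Cfsg.Agent.H742.Opp
import Cfsg.Agent.H731.SL2Pair

set_option autoImplicit false
open Cfsg

namespace Cfsg.Agent.H742

open Cfsg.Agent.H740 Cfsg.Agent.H731

variable {k : Type*} [Field k] {M : Type*} [AddCommGroup M] [Module k M]
variable {G : Subgroup (LinearMap.GeneralLinearGroup k M)}

/-! ### Ring computations for inverse pairs -/

/-- the partner relation `a⁻¹ b a = b⁻¹ a⁻¹ b` -/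
theorem Inv.relation {s t : M →ₗ[k] M} (h : Inv s t) :
    (oneAdd s h.ss)⁻¹ * oneAdd t h.tt * oneAdd s h.ss = (oneAdd t h.tt)⁻¹ * (oneAdd s h.ss)⁻¹ * oneAdd t h.tt := by
  apply Units.ext
  simp only [Units.val_mul, coe_oneAdd, coe_oneAdd_inv]
  have e1 : (1 - s) * (1 + t) * (1 + s) = 1 + t + t * s - s * t - s := by
    have : (1 - s) * (1 + t) * (1 + s) = 1 + t + t * s - s * t - s * t * s - s * s := by noncomm_ring
    rw [this, h.sts, h.ss, sub_zero]
  have e2 : (1 - t) * (1 - s) * (1 + t) = 1 + t + t * s - s * t - s := by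
    have : (1 - t) * (1 - s) * (1 + t) = 1 - s - s * t + t * s + t * s * t - t * t := by noncomm_ring
    rw [this, h.tst, h.tt, sub_zero]
    abel
  rw [e1, e2]

/-- the Weyl element `w = (1 + s)(1 - t)(1 + s)` -/
def Inv.w {s t : M →ₗ[k] M} (h : Inv s t) : LinearMap.GeneralLinearGroup k M :=
  oneAdd s h.ss * (oneAdd t h.tt)⁻¹ * oneAdd s h.ss

theorem Inv.coe_w {s t : M →ₗ[k] M} (h : Inv s t) :
    (h.w : M →ₗ[k] M) = 1 - (s * t + t * s) + s - t := by
  unfold Inv.w
  simp only [Units.val_mul, coe_oneAdd, coe_oneAdd_inv]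
  have : (1 + s) * (1 - t) * (1 + s) = 1 + s + s - t - s * t - t * s - s * t * s + s * s := by noncomm_ring
  rw [this, h.sts, h.ss]
  abel

/-- `w t w⁻¹ = -s` in the form `w t = -s w`. -/
theorem Inv.w_mul {s t : M →ₗ[k] M} (h : Inv s t) : (h.w : M →ₗ[k] M) * t = -s * (h.w : M →ₗ[k] M) := by
  rw [h.coe_w]
  have e1 : (1 - (s * t + t * s) + s - t) * t = t - s * (t * t) - t * s * t + s * t - t * t := by noncomm_ring
  have e2 : -s * (1 - (s * t + t * s) + s - t) = -s + s * s * t + s * t * s - s * s + s * t := by noncomm_ring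
  rw [e1, e2, h.tt, h.ss, h.sts, h.tst]
  simp

/-- the involution `i = w²` -/
theorem Inv.coe_w_sq {s t : M →ₗ[k] M} (h : Inv s t) :
    ((h.w * h.w : LinearMap.GeneralLinearGroup k M) : M →ₗ[k] M) = 1 - (s * t + t * s) - (s * t + t * s) := by
  rw [Units.val_mul, h.coe_w]
  have e : (1 - (s * t + t * s) + s - t) * (1 - (s * t + t * s) + s - t) =
      1 - (s * t + t * s) - (s * t + t * s) + ((s * t * s) * t + s * (t * t) * s + t * (s * s) * t + (t * s * t) * s)
      - (s * t + t * s)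
      + (s - s * t * s - t * (s * s)) + (s - (s * s) * t - s * t * s)
      - (t - s * (t * t) - t * s * t) - (t - t * s * t - (t * t) * s)
      + s * s + t * t := by noncomm_ring
  rw [e, h.tt, h.ss, h.sts, h.tst]
  simp

theorem Inv.idem {s t : M →ₗ[k] M} (h : Inv s t) : (s * t + t * s) * (s * t + t * s) = s * t + t * s := by
  have e : (s * t + t * s) * (s * t + t * s) = (s * t * s) * t + s * (t * t) * s + t * (s * s) * t + (t * s * t) * s := by
    noncomm_ring
  rw [e, h.tt, h.ss, h.sts, h.tst]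
  simp

/-- `e s' = s'` for `s'` in the class of `s`. -/
theorem Inv.e_mul {s t x : M →ₗ[k] M} (h : Inv s t) (hx : Same x s) : (s * t + t * s) * x = x := by
  have h1 : s * x = 0 := by
    rw [mul_eq_zero_iff_range_le, hx.2]
    exact range_le_ker_of_mul h.ss
  rw [add_mul, h.st_mul hx.2.le, mul_assoc t s x, h1, mul_zero, add_zero]

theorem Inv.mul_e {s t x : M →ₗ[k] M} (h : Inv s t) (hx : Same x s) : x * (s * t + t * s) = x := by
  have h1 : x * s = 0 := by
    rw [mul_eq_zero_iff_range_le, hx.1]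
    exact range_le_ker_of_mul h.ss
  rw [mul_add, ← mul_assoc, h1, zero_mul, zero_add, h.symm.mul_st hx.1.ge]

theorem Inv.e_comm {s t : M →ₗ[k] M} : s * t + t * s = t * s + s * t := add_comm _ _

theorem Inv.range_e {s t : M →ₗ[k] M} (h : Inv s t) :
    LinearMap.range (s * t + t * s) = LinearMap.range s ⊔ LinearMap.range t := by
  apply le_antisymm
  · rintro _ ⟨m, rfl⟩
    rw [LinearMap.add_apply]
    exact Submodule.add_mem_sup ⟨t m, rfl⟩ ⟨s m, rfl⟩
  · apply sup_le
    · rintro _ ⟨m, rfl⟩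
      refine ⟨s m, ?_⟩
      have := congrArg (fun f : M →ₗ[k] M => f m) (h.e_mul (Same.refl s))
      exact this
    · rintro _ ⟨m, rfl⟩
      refine ⟨t m, ?_⟩
      have := congrArg (fun f : M →ₗ[k] M => f m) (h.symm.e_mul (Same.refl t))
      rw [add_comm]
      exact this

theorem Inv.ker_e {s t : M →ₗ[k] M} (h : Inv s t) :
    LinearMap.ker (s * t + t * s) = LinearMap.ker s ⊓ LinearMap.ker t := by
  apply le_antisymm
  · intro m hm
    rw [LinearMap.mem_ker] at hm
    constructor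
    · have := congrArg (fun f : M →ₗ[k] M => f m) (h.mul_e (Same.refl s))
      change s ((s * t + t * s) m) = s m at this
      change s m = 0
      rw [← this, hm, map_zero]
    · have := congrArg (fun f : M →ₗ[k] M => f m) (h.symm.mul_e (Same.refl t))
      change t ((t * s + s * t) m) = t m at this
      change t m = 0
      rw [← this, add_comm (t * s), hm, map_zero]
  · rintro m ⟨h1, h2⟩
    change s m = 0 at h1
    change t m = 0 at h2
    rw [LinearMap.mem_ker, LinearMap.add_apply, Module.End.mul_apply, Module.End.mul_apply, h1, h2, map_zero,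
      map_zero, add_zero]

theorem isCompl_of_idem {e : M →ₗ[k] M} (h : e * e = e) : IsCompl (LinearMap.ker e) (LinearMap.range e) := by
  apply IsCompl.of_eq
  · rw [Submodule.eq_bot_iff]
    rintro _ ⟨hx, ⟨y, rfl⟩⟩
    have h1 := congrArg (fun f : M →ₗ[k] M => f y) h
    change e (e y) = e y at h1
    change e (e y) = 0 at hx
    rw [← h1, hx]
  · rw [eq_top_iff]
    intro x _
    rw [Submodule.mem_sup]
    refine ⟨x - e x, ?_, e x, ⟨x, rfl⟩, by abel⟩
    rw [LinearMap.mem_ker, map_sub, sub_eq_zero]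
    have h1 := congrArg (fun f : M →ₗ[k] M => f x) h
    exact h1.symm

/-! ### Fixed and commutator spaces -/

theorem fixedSubmodule_mem {H : Subgroup (LinearMap.GeneralLinearGroup k M)} {m : M} :
    m ∈ fixedSubmodule H ↔ ∀ g ∈ H, (g : M →ₗ[k] M) m = m := by
  unfold fixedSubmodule
  simp only [Submodule.mem_iInf, LinearMap.mem_ker, LinearMap.sub_apply, Module.End.one_apply, sub_eq_zero]

/-- the subgroup fixing a subspace pointwise -/
def fixer (W : Submodule k M) : Subgroup (LinearMap.GeneralLinearGroup k M) where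
  carrier := {g | ∀ m ∈ W, (g : M →ₗ[k] M) m = m}
  one_mem' := fun m _ => by rw [Units.val_one, Module.End.one_apply]
  mul_mem' := by
    intro a b ha hb m hm
    rw [Units.val_mul, Module.End.mul_apply, hb m hm, ha m hm]
  inv_mem' := by
    intro a ha m hm
    have h1 : ((a⁻¹ : LinearMap.GeneralLinearGroup k M) : M →ₗ[k] M) ((a : M →ₗ[k] M) m) = m := by
      rw [← Module.End.mul_apply, Units.inv_mul, Module.End.one_apply]
    rw [ha m hm] at h1
    exact h1

theorem mem_fixer {W : Submodule k M} {g : LinearMap.GeneralLinearGroup k M} :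
    g ∈ fixer W ↔ ∀ m ∈ W, (g : M →ₗ[k] M) m = m := Iff.rfl

/-- the subgroup acting trivially on the quotient by a subspace -/
def cofixer (W : Submodule k M) : Subgroup (LinearMap.GeneralLinearGroup k M) where
  carrier := {g | ∀ m : M, (g : M →ₗ[k] M) m - m ∈ W}
  one_mem' := fun m => by rw [Units.val_one, Module.End.one_apply, sub_self]; exact W.zero_mem
  mul_mem' := by
    intro a b ha hb m
    have : ((a * b : LinearMap.GeneralLinearGroup k M) : M →ₗ[k] M) m - m =
        ((a : M →ₗ[k] M) ((b : M →ₗ[k] M) m) - (b : M →ₗ[k] M) m) + ((b : M →ₗ[k] M) m - m) := by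
      rw [Units.val_mul, Module.End.mul_apply]
      abel
    rw [this]
    exact W.add_mem (ha _) (hb _)
  inv_mem' := by
    intro a ha m
    have h1 : (a : M →ₗ[k] M) (((a⁻¹ : LinearMap.GeneralLinearGroup k M) : M →ₗ[k] M) m) = m := by
      rw [← Module.End.mul_apply, Units.mul_inv, Module.End.one_apply]
    have h2 := ha (((a⁻¹ : LinearMap.GeneralLinearGroup k M) : M →ₗ[k] M) m)
    rw [h1] at h2
    have := W.neg_mem h2
    rwa [neg_sub] at this

theorem mem_cofixer {W : Submodule k M} {g : LinearMap.GeneralLinearGroup k M} :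
    g ∈ cofixer W ↔ ∀ m : M, (g : M →ₗ[k] M) m - m ∈ W := Iff.rfl

theorem commutatorSubmodule_le {H : Subgroup (LinearMap.GeneralLinearGroup k M)} {W : Submodule k M} :
    commutatorSubmodule H ≤ W ↔ H ≤ cofixer W := by
  unfold commutatorSubmodule
  simp only [iSup_le_iff]
  constructor
  · intro h g hg m
    exact h g hg ⟨m, rfl⟩
  · rintro h g hg _ ⟨m, rfl⟩
    exact h hg m

theorem mem_commutatorSubmodule {H : Subgroup (LinearMap.GeneralLinearGroup k M)} {g : LinearMap.GeneralLinearGroup k M}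
    (hg : g ∈ H) (m : M) : (g : M →ₗ[k] M) m - m ∈ commutatorSubmodule H :=
  (commutatorSubmodule_le.1 le_rfl) hg m

variable [FiniteDimensional k M]

/-- fixed space of `⟨E(σ), E(τ)⟩` -/
theorem fixedSubmodule_sup {σ τ : LinearMap.GeneralLinearGroup k M} (hσ : σ ∈ minimalQuadraticElements G)
    (hτ : τ ∈ minimalQuadraticElements G) :
    fixedSubmodule (sameActionSubgroup G σ ⊔ sameActionSubgroup G τ) =
      LinearMap.ker ((σ : M →ₗ[k] M) - 1) ⊓ LinearMap.ker ((τ : M →ₗ[k] M) - 1) := by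
  apply le_antisymm
  · intro m hm
    rw [fixedSubmodule_mem] at hm
    constructor
    · have := hm σ (Subgroup.mem_sup_left (self_mem_sameActionSubgroup hσ))
      change ((σ : M →ₗ[k] M) - 1) m = 0
      rw [LinearMap.sub_apply, this, Module.End.one_apply, sub_self]
    · have := hm τ (Subgroup.mem_sup_right (self_mem_sameActionSubgroup hτ))
      change ((τ : M →ₗ[k] M) - 1) m = 0
      rw [LinearMap.sub_apply, this, Module.End.one_apply, sub_self]
  · have h1 : sameActionSubgroup G σ ⊔ sameActionSubgroup G τ ≤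
        fixer (LinearMap.ker ((σ : M →ₗ[k] M) - 1) ⊓ LinearMap.ker ((τ : M →ₗ[k] M) - 1)) := by
      apply sup_le
      · intro g hg m hm
        have h2 := ((mem_E_iff hσ).1 hg).2.1 hm.1
        rwa [LinearMap.mem_ker, LinearMap.sub_apply, Module.End.one_apply, sub_eq_zero] at h2
      · intro g hg m hm
        have h2 := ((mem_E_iff hτ).1 hg).2.1 hm.2
        rwa [LinearMap.mem_ker, LinearMap.sub_apply, Module.End.one_apply, sub_eq_zero] at h2
    intro m hm
    rw [fixedSubmodule_mem]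
    intro g hg
    exact h1 hg m hm

/-- commutator space of `⟨E(σ), E(τ)⟩` -/
theorem commutatorSubmodule_sup {σ τ : LinearMap.GeneralLinearGroup k M} (hσ : σ ∈ minimalQuadraticElements G)
    (hτ : τ ∈ minimalQuadraticElements G) :
    commutatorSubmodule (sameActionSubgroup G σ ⊔ sameActionSubgroup G τ) =
      LinearMap.range ((σ : M →ₗ[k] M) - 1) ⊔ LinearMap.range ((τ : M →ₗ[k] M) - 1) := by
  apply le_antisymm
  · rw [commutatorSubmodule_le]
    apply sup_le
    · intro g hg m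
      exact (le_sup_left : _ ≤ LinearMap.range ((σ : M →ₗ[k] M) - 1) ⊔ LinearMap.range ((τ : M →ₗ[k] M) - 1))
        (((mem_E_iff hσ).1 hg).2.2 ⟨m, rfl⟩)
    · intro g hg m
      exact (le_sup_right : _ ≤ LinearMap.range ((σ : M →ₗ[k] M) - 1) ⊔ LinearMap.range ((τ : M →ₗ[k] M) - 1))
        (((mem_E_iff hτ).1 hg).2.2 ⟨m, rfl⟩)
  · apply sup_le
    · rintro _ ⟨m, rfl⟩
      exact mem_commutatorSubmodule (Subgroup.mem_sup_left (self_mem_sameActionSubgroup hσ)) m
    · rintro _ ⟨m, rfl⟩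
      exact mem_commutatorSubmodule (Subgroup.mem_sup_right (self_mem_sameActionSubgroup hτ)) m

/-- fixed space of a single root group -/
theorem fixedSubmodule_E {σ : LinearMap.GeneralLinearGroup k M} (hσ : σ ∈ minimalQuadraticElements G) :
    fixedSubmodule (sameActionSubgroup G σ) = LinearMap.ker ((σ : M →ₗ[k] M) - 1) := by
  have := fixedSubmodule_sup hσ hσ
  rwa [sup_idem, inf_idem] at this

theorem commutatorSubmodule_E {σ : LinearMap.GeneralLinearGroup k M} (hσ : σ ∈ minimalQuadraticElements G) :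
    commutatorSubmodule (sameActionSubgroup G σ) = LinearMap.range ((σ : M →ₗ[k] M) - 1) := by
  have := commutatorSubmodule_sup hσ hσ
  rwa [sup_idem, sup_idem] at this

/-! ### Root groups are abelian -/

theorem E_comm {σ : LinearMap.GeneralLinearGroup k M} (hσ : σ ∈ minimalQuadraticElements G) {x y : LinearMap.GeneralLinearGroup k M}
    (hx : x ∈ sameActionSubgroup G σ) (hy : y ∈ sameActionSubgroup G σ) : x * y = y * x := by
  have hx' := (mem_E_iff hσ).1 hx
  have hy' := (mem_E_iff hσ).1 hy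
  have hs := (mem_minimalQuadraticElements_iff.1 hσ).sq
  have h1 := cl_mul hs hx' hy'
  have h2 := cl_mul hs hy' hx'
  apply Units.ext
  rw [Units.val_mul, Units.val_mul]
  have e : ∀ a b : M →ₗ[k] M, a * b = (a - 1) * (b - 1) + a + b - 1 := by intro a b; noncomm_ring
  rw [e, e (y : M →ₗ[k] M), h1, h2]
  abel

theorem E_isMulCommutative {σ : LinearMap.GeneralLinearGroup k M} (hσ : σ ∈ minimalQuadraticElements G) :
    IsMulCommutative ↥(sameActionSubgroup G σ) := by
  refine ⟨⟨?_⟩⟩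
  rintro ⟨x, hx⟩ ⟨y, hy⟩
  exact Subtype.ext (E_comm hσ hx hy)

theorem E_ne_bot {σ : LinearMap.GeneralLinearGroup k M} (hσ : σ ∈ minimalQuadraticElements G) :
    sameActionSubgroup G σ ≠ ⊥ := by
  intro h
  have h1 := self_mem_sameActionSubgroup hσ
  rw [h, Subgroup.mem_bot] at h1
  exact sub_one_ne_zero.1 (mem_minimalQuadraticElements_iff.1 hσ).ne_zero h1

theorem mem_E_of_same {σ : LinearMap.GeneralLinearGroup k M} (hσ : σ ∈ minimalQuadraticElements G)
    {x : M →ₗ[k] M} (hx : QIn G x) (h : Same x ((σ : M →ₗ[k] M) - 1)) :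
    oneAdd x hx.1 ∈ sameActionSubgroup G σ :=
  oneAdd_mem_E hσ ⟨hx, h.1.ge, h.2.le⟩

theorem E_oneAdd_eq {s : M →ₗ[k] M} (hs : IsMin G s) {x : LinearMap.GeneralLinearGroup k M} :
    x ∈ sameActionSubgroup G (oneAdd s hs.sq) ↔ (x : M →ₗ[k] M) - 1 ∈ cl G s := by
  rw [mem_E_iff (oneAdd_mem_minimal hs), coe_oneAdd, add_sub_cancel_left]

/-! ### Opposite root groups form a special rank one pair -/

section opp

variable {σ τ : LinearMap.GeneralLinearGroup k M}

/-- For `a ∈ E(σ)#` there is a partner `b ∈ E(τ)#`. -/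
theorem exists_partner (hC : Core G) (hσ : σ ∈ minimalQuadraticElements G)
    (hτ : τ ∈ minimalQuadraticElements G) (hn : ¬ IsNilpotent (((σ : M →ₗ[k] M) - 1) * ((τ : M →ₗ[k] M) - 1)))
    {a : LinearMap.GeneralLinearGroup k M} (ha : a ∈ sameActionSubgroup G σ) (ha1 : a ≠ 1) :
    ∃ b ∈ sameActionSubgroup G τ, b ≠ 1 ∧ Inv ((a : M →ₗ[k] M) - 1) ((b : M →ₗ[k] M) - 1) ∧
      a⁻¹ * b * a = b⁻¹ * a⁻¹ * b ∧
      conjBy (sameActionSubgroup G σ) b⁻¹ = conjBy (sameActionSubgroup G τ) a⁻¹ := by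
  have hσ' := mem_minimalQuadraticElements_iff.1 hσ
  have hτ' := mem_minimalQuadraticElements_iff.1 hτ
  have haE := (mem_E_iff hσ).1 ha
  have ha0 := sub_one_ne_zero.2 ha1
  have hsame := same_of_mem_cl hσ' haE ha0
  have hmin := isMin_of_mem_cl hσ' haE ha0
  have hn' : ¬ IsNilpotent (((a : M →ₗ[k] M) - 1) * ((τ : M →ₗ[k] M) - 1)) := by
    rwa [← hC.not_isNilpotent_congr hσ' hτ' hmin hτ' hsame.symm (Same.refl _)]
  obtain ⟨t, ht, htτ, hi⟩ := hC.inv hmin hτ' hn'
  have hb : oneAdd t ht.sq ∈ sameActionSubgroup G τ := mem_E_of_same hτ ht.1 htτ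
  have hb1 : oneAdd t ht.sq ≠ 1 := by
    rw [← sub_one_ne_zero, coe_oneAdd, add_sub_cancel_left]
    exact ht.ne_zero
  have haeq : a = oneAdd ((a : M →ₗ[k] M) - 1) hi.ss := by
    rw [eq_oneAdd_iff]; abel
  have hrel : a⁻¹ * oneAdd t ht.sq * a = (oneAdd t ht.sq)⁻¹ * a⁻¹ * oneAdd t ht.sq := by
    have := hi.relation
    rw [← haeq] at this
    exact this
  refine ⟨oneAdd t ht.sq, hb, hb1, ?_, hrel, ?_⟩
  · rw [coe_oneAdd, add_sub_cancel_left]
    exact hi
  · have haG : a ∈ G := sameActionSubgroup_le hσ ha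
    have hbG : oneAdd t ht.sq ∈ G := sameActionSubgroup_le hτ hb
    refine eq_of_mem_of_mem (G := G) (conjBy_mem_quadraticRootSubgroups ⟨σ, hσ, rfl⟩ (G.inv_mem hbG))
      (conjBy_mem_quadraticRootSubgroups ⟨τ, hτ, rfl⟩ (G.inv_mem haG)) (τ := a⁻¹ * oneAdd t ht.sq * a) ?_ ?_ ?_
    · intro h1
      apply hb1
      have : oneAdd t ht.sq = a * (a⁻¹ * oneAdd t ht.sq * a) * a⁻¹ := by group
      rw [this, h1]; group
    · rw [mem_conjBy_inv, hrel]
      have : oneAdd t ht.sq * ((oneAdd t ht.sq)⁻¹ * a⁻¹ * oneAdd t ht.sq) * (oneAdd t ht.sq)⁻¹ = a⁻¹ := by group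
      rw [this]
      exact Subgroup.inv_mem _ ha
    · rw [mem_conjBy_inv]
      have : a * (a⁻¹ * oneAdd t ht.sq * a) * a⁻¹ = oneAdd t ht.sq := by group
      rw [this]
      exact hb

theorem rankOnePair_of_not_nilpotent (hC : Core G) (hσ : σ ∈ minimalQuadraticElements G)
    (hτ : τ ∈ minimalQuadraticElements G) (hn : ¬ IsNilpotent (((σ : M →ₗ[k] M) - 1) * ((τ : M →ₗ[k] M) - 1))) :
    IsSpecialRankOnePair (sameActionSubgroup G σ) (sameActionSubgroup G τ) := by
  have hn' : ¬ IsNilpotent (((τ : M →ₗ[k] M) - 1) * ((σ : M →ₗ[k] M) - 1)) := fun h => hn (isNilpotent_mul_comm h)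
  have hpair : IsRankOnePair (sameActionSubgroup G σ) (sameActionSubgroup G τ) := by
    refine ⟨?_, isNilpotent_of_isMulCommutative (E_isMulCommutative hσ),
      isNilpotent_of_isMulCommutative (E_isMulCommutative hτ), ?_, ?_⟩
    · intro heq
      apply hn
      have hs := (mem_minimalQuadraticElements_iff.1 hσ).sq
      have h1 : τ ∈ sameActionSubgroup G σ := by
        rw [heq]; exact self_mem_sameActionSubgroup hτ
      have h2 := cl_mul hs ((mem_E_iff hσ).1 (self_mem_sameActionSubgroup hσ)) ((mem_E_iff hσ).1 h1)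
      rw [h2]
      exact IsNilpotent.zero
    · intro a ha ha1
      obtain ⟨b, hb, hb1, -, -, h⟩ := exists_partner hC hσ hτ hn ha ha1
      exact ⟨b, hb, hb1, h⟩
    · intro b hb hb1
      obtain ⟨a, ha, ha1, -, -, h⟩ := exists_partner hC hτ hσ hn' hb hb1
      exact ⟨a, ha, ha1, h⟩
  refine ⟨hpair, ?_⟩
  intro a ha ha1 b hb hb1 hab
  obtain ⟨b', hb', hb1', -, hrel, hab'⟩ := exists_partner hC hσ hτ hn ha ha1
  have hbb : b = b' := rankOne_existsUnique_right hpair hb hb' hab hab'
  subst hbb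
  have := congrArg (fun x => x⁻¹) hrel
  simp only [mul_inv_rev, inv_inv] at this
  rw [mul_assoc, mul_assoc]
  rw [← mul_assoc, ← mul_assoc] at this
  simp only [← mul_assoc] at this ⊢
  exact this.symm

omit [FiniteDimensional k M] in
/-- An element of `⟨E(σ), E(τ)⟩` commutes with everything commuting with both. -/
theorem comm_of_mem_sup {A B : Subgroup (LinearMap.GeneralLinearGroup k M)} {i : LinearMap.GeneralLinearGroup k M}
    (hA : ∀ a ∈ A, i * a = a * i) (hB : ∀ b ∈ B, i * b = b * i) {x : LinearMap.GeneralLinearGroup k M}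
    (hx : x ∈ A ⊔ B) : i * x = x * i := by
  have h1 : i ∈ Subgroup.centralizer ((A ⊔ B : Subgroup (LinearMap.GeneralLinearGroup k M)) :
      Set (LinearMap.GeneralLinearGroup k M)) := mem_centralizer_sup.2 ⟨hA, hB⟩
  exact (Subgroup.mem_centralizer_iff.1 h1 x hx).symm

/-- **The opposite case of S5065.** -/
theorem opposite_case (hk2 : ringChar k ≠ 2) (hC : Core G) (hσ : σ ∈ minimalQuadraticElements G)
    (hτ : τ ∈ minimalQuadraticElements G) (hn : ¬ IsNilpotent (((σ : M →ₗ[k] M) - 1) * ((τ : M →ₗ[k] M) - 1))) :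
    IsSpecialRankOnePair (sameActionSubgroup G σ) (sameActionSubgroup G τ) ∧
      (∃! i : LinearMap.GeneralLinearGroup k M, i ∈ sameActionSubgroup G σ ⊔ sameActionSubgroup G τ ∧ i ≠ 1 ∧ i * i = 1 ∧
        (∀ x ∈ sameActionSubgroup G σ ⊔ sameActionSubgroup G τ, i * x = x * i) ∧
        (∀ m ∈ commutatorSubmodule (sameActionSubgroup G σ ⊔ sameActionSubgroup G τ), (i : M →ₗ[k] M) m = -m) ∧
        (∀ m ∈ fixedSubmodule (sameActionSubgroup G σ ⊔ sameActionSubgroup G τ), (i : M →ₗ[k] M) m = m)) ∧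
      IsCompl (fixedSubmodule (sameActionSubgroup G σ ⊔ sameActionSubgroup G τ))
        (commutatorSubmodule (sameActionSubgroup G σ ⊔ sameActionSubgroup G τ)) := by
  have hσ' := mem_minimalQuadraticElements_iff.1 hσ
  have hτ' := mem_minimalQuadraticElements_iff.1 hτ
  obtain ⟨t, ht, htτ, hi⟩ := hC.inv hσ' hτ' hn
  set s := (σ : M →ₗ[k] M) - 1 with hs
  have hfix : fixedSubmodule (sameActionSubgroup G σ ⊔ sameActionSubgroup G τ) = LinearMap.ker (s * t + t * s) := by
    rw [fixedSubmodule_sup hσ hτ, hi.ker_e, htτ.1]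
  have hcom : commutatorSubmodule (sameActionSubgroup G σ ⊔ sameActionSubgroup G τ) =
      LinearMap.range (s * t + t * s) := by
    rw [commutatorSubmodule_sup hσ hτ, hi.range_e, htτ.2]
  have hcompl := isCompl_of_idem hi.idem
  refine ⟨rankOnePair_of_not_nilpotent hC hσ hτ hn, ?_, by rw [hfix, hcom]; exact hcompl⟩
  rw [hfix, hcom]
  set e := s * t + t * s with he
  have hee : e * e = e := hi.idem
  have hσeq : σ = oneAdd s hi.ss := by
    rw [eq_oneAdd_iff, hs]; abel
  have htB : oneAdd t hi.tt ∈ sameActionSubgroup G τ := mem_E_of_same hτ ht.1 htτ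
  have hsA : oneAdd s hi.ss ∈ sameActionSubgroup G σ := by
    rw [← hσeq]; exact self_mem_sameActionSubgroup hσ
  have hw : hi.w ∈ sameActionSubgroup G σ ⊔ sameActionSubgroup G τ :=
    Subgroup.mul_mem _ (Subgroup.mul_mem _ (Subgroup.mem_sup_left hsA)
      (Subgroup.inv_mem _ (Subgroup.mem_sup_right htB))) (Subgroup.mem_sup_left hsA)
  have hi2 : ((hi.w * hi.w : LinearMap.GeneralLinearGroup k M) : M →ₗ[k] M) = 1 - e - e := hi.coe_w_sq
  have hact : ∀ m ∈ LinearMap.range e, (1 - e - e) m = -m := by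
    rintro _ ⟨y, rfl⟩
    have h1 : e (e y) = e y := congrArg (fun f : M →ₗ[k] M => f y) hee
    rw [LinearMap.sub_apply, LinearMap.sub_apply, Module.End.one_apply, h1]
    abel
  have hact' : ∀ m ∈ LinearMap.ker e, (1 - e - e) m = m := by
    intro m hm
    rw [LinearMap.mem_ker] at hm
    rw [LinearMap.sub_apply, LinearMap.sub_apply, Module.End.one_apply, hm, sub_zero, sub_zero]
  refine ⟨hi.w * hi.w, ⟨Subgroup.mul_mem _ hw hw, ?_, ?_, ?_, ?_, ?_⟩, ?_⟩
  · intro h1
    rw [h1, Units.val_one] at hi2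
    have h2 : e + e = 0 := by
      have : (1 : M →ₗ[k] M) - (1 - e - e) = e + e := by abel
      rw [← this, ← hi2, sub_self]
    have h3 : (2 : k) • e = 0 := by rw [two_smul, h2]
    have h4 : (2 : k) ≠ 0 := Ring.two_ne_zero hk2
    have h5 : e = 0 := (smul_eq_zero.1 h3).resolve_left h4
    apply hσ'.ne_zero
    have h6 := hi.e_mul (Same.refl s)
    rw [← he, h5, zero_mul] at h6
    exact h6.symm
  · apply Units.ext
    rw [Units.val_mul, hi2, Units.val_one]
    have : (1 - e - e) * (1 - e - e) = 1 + (e * e + e * e + e * e + e * e) - (e + e + e + e) := by noncomm_ring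
    rw [this, hee]
    abel
  · intro x hx
    refine comm_of_mem_sup ?_ ?_ hx
    · intro a ha
      have haE := (mem_E_iff hσ).1 ha
      apply Units.ext
      rw [Units.val_mul, Units.val_mul a, hi2]
      by_cases ha0 : (a : M →ₗ[k] M) - 1 = 0
      · rw [sub_eq_zero.1 ha0, mul_one, one_mul]
      · have hsame : Same ((a : M →ₗ[k] M) - 1) s := same_of_mem_cl hσ' haE ha0
        have h1 : e * ((a : M →ₗ[k] M) - 1) = (a : M →ₗ[k] M) - 1 := hi.e_mul hsame
        have h2 : ((a : M →ₗ[k] M) - 1) * e = (a : M →ₗ[k] M) - 1 := hi.mul_e hsame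
        have h3 : e * (a : M →ₗ[k] M) = (a : M →ₗ[k] M) * e := by
          have e1 : e * (a : M →ₗ[k] M) = e * ((a : M →ₗ[k] M) - 1) + e := by noncomm_ring
          have e2 : (a : M →ₗ[k] M) * e = ((a : M →ₗ[k] M) - 1) * e + e := by noncomm_ring
          rw [e1, e2, h1, h2]
        rw [sub_mul, sub_mul, mul_sub, mul_sub, one_mul, mul_one, h3]
    · intro b hb
      have hbE := (mem_E_iff hτ).1 hb
      apply Units.ext
      rw [Units.val_mul, Units.val_mul b, hi2]
      by_cases hb0 : (b : M →ₗ[k] M) - 1 = 0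
      · rw [sub_eq_zero.1 hb0, mul_one, one_mul]
      · have hsame : Same ((b : M →ₗ[k] M) - 1) t := (same_of_mem_cl hτ' hbE hb0).trans htτ.symm
        have h1 : e * ((b : M →ₗ[k] M) - 1) = (b : M →ₗ[k] M) - 1 := by
          have := hi.symm.e_mul hsame
          rwa [add_comm] at this
        have h2 : ((b : M →ₗ[k] M) - 1) * e = (b : M →ₗ[k] M) - 1 := by
          have := hi.symm.mul_e hsame
          rwa [add_comm] at this
        have h3 : e * (b : M →ₗ[k] M) = (b : M →ₗ[k] M) * e := by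
          have e1 : e * (b : M →ₗ[k] M) = e * ((b : M →ₗ[k] M) - 1) + e := by noncomm_ring
          have e2 : (b : M →ₗ[k] M) * e = ((b : M →ₗ[k] M) - 1) * e + e := by noncomm_ring
          rw [e1, e2, h1, h2]
        rw [sub_mul, sub_mul, mul_sub, mul_sub, one_mul, mul_one, h3]
  · intro m hm
    rw [hi2]
    exact hact m hm
  · intro m hm
    rw [hi2]
    exact hact' m hm
  · rintro j ⟨-, -, -, -, hj1, hj2⟩
    apply Units.ext
    rw [hi2]
    ext m
    have hm : m ∈ LinearMap.ker e ⊔ LinearMap.range e := by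
      rw [hcompl.sup_eq_top]; exact Submodule.mem_top
    obtain ⟨x, hx, y, hy, rfl⟩ := Submodule.mem_sup.1 hm
    rw [map_add, map_add, hj1 y hy, hj2 x hx, hact y hy, hact' x hx]

/-- **The unipotent case of S5065.** -/
theorem unipotent_case (hC : Core G) (hσ : σ ∈ minimalQuadraticElements G)
    (hτ : τ ∈ minimalQuadraticElements G) (hn : IsNilpotent (((σ : M →ₗ[k] M) - 1) * ((τ : M →ₗ[k] M) - 1))) :
    IsUnipotentOn (sameActionSubgroup G σ ⊔ sameActionSubgroup G τ) := by
  have hσ' := mem_minimalQuadraticElements_iff.1 hσ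
  have hτ' := mem_minimalQuadraticElements_iff.1 hτ
  set s := (σ : M →ₗ[k] M) - 1 with hs
  set t := (τ : M →ₗ[k] M) - 1 with ht
  -- all triple products vanish
  have hclass : ∀ x ∈ cl G s, ∀ y ∈ cl G t, x ≠ 0 → y ≠ 0 → IsNilpotent (x * y) := by
    intro x hx y hy hx0 hy0
    exact (hC.not_isNilpotent_congr hσ' hτ' (isMin_of_mem_cl hσ' hx hx0) (isMin_of_mem_cl hτ' hy hy0)
      (same_of_mem_cl hσ' hx hx0).symm (same_of_mem_cl hτ' hy hy0).symm).1 hn
  have hsts : ∀ x ∈ cl G s, ∀ y ∈ cl G t, x * y * x = 0 := by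
    intro x hx y hy
    by_cases hx0 : x = 0
    · rw [hx0, mul_zero]
    by_cases hy0 : y = 0
    · rw [hy0, mul_zero, zero_mul]
    exact hC.t1 (isMin_of_mem_cl hσ' hx hx0) hy.1 (hclass x hx y hy hx0 hy0)
  have htst : ∀ x ∈ cl G s, ∀ y ∈ cl G t, y * x * y = 0 := by
    intro x hx y hy
    by_cases hx0 : x = 0
    · rw [hx0, mul_zero, zero_mul]
    by_cases hy0 : y = 0
    · rw [hy0, mul_zero]
    exact hC.t1 (isMin_of_mem_cl hτ' hy hy0) hx.1 (isNilpotent_mul_comm (hclass x hx y hy hx0 hy0))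
  -- the flag
  set V₁ := LinearMap.range s ⊔ LinearMap.range t with hV1
  set V₂ := (LinearMap.range s ⊓ LinearMap.ker t) ⊔ (LinearMap.range t ⊓ LinearMap.ker s) with hV2
  have h21 : V₂ ≤ V₁ := sup_le_sup inf_le_left inf_le_left
  have hVs : LinearMap.range s ≤ LinearMap.ker s := range_le_ker_of_mul hσ'.sq
  have hVt : LinearMap.range t ≤ LinearMap.ker t := range_le_ker_of_mul hτ'.sq
  apply isUnipotentOn_of_le_flagStab (h := h21)
  apply sup_le
  · intro a ha
    have haE := (mem_E_iff hσ).1 ha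
    set x := (a : M →ₗ[k] M) - 1 with hx
    have hax : ∀ m, (a : M →ₗ[k] M) m - m = x m := fun m => by
      rw [hx, LinearMap.sub_apply, Module.End.one_apply]
    refine ⟨fun m => ?_, fun m hm => ?_, fun m hm => ?_⟩
    · rw [hax]
      exact Submodule.mem_sup_left (haE.2.2 ⟨m, rfl⟩)
    · rw [hax]
      obtain ⟨u, hu, v, ⟨y, hy⟩, rfl⟩ := Submodule.mem_sup.1 hm
      have hxu : x u = 0 := haE.2.1 (hVs hu)
      rw [map_add, hxu, zero_add]
      apply Submodule.mem_sup_left
      refine ⟨haE.2.2 ⟨v, rfl⟩, ?_⟩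
      -- t x t = 0
      have h3 := congrArg (fun f : M →ₗ[k] M => f y) (htst x haE t (self_mem_cl hτ'.1))
      change t (x (t y)) = 0 at h3
      rw [hy] at h3
      exact h3
    · rw [← sub_eq_zero, hax]
      obtain ⟨u, hu, v, hv, rfl⟩ := Submodule.mem_sup.1 hm
      rw [map_add, LinearMap.mem_ker.1 (haE.2.1 (hVs hu.1)), LinearMap.mem_ker.1 (haE.2.1 hv.2), add_zero]
  · intro a ha
    have haE := (mem_E_iff hτ).1 ha
    set x := (a : M →ₗ[k] M) - 1 with hx
    have hax : ∀ m, (a : M →ₗ[k] M) m - m = x m := fun m => by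
      rw [hx, LinearMap.sub_apply, Module.End.one_apply]
    refine ⟨fun m => ?_, fun m hm => ?_, fun m hm => ?_⟩
    · rw [hax]
      exact Submodule.mem_sup_right (haE.2.2 ⟨m, rfl⟩)
    · rw [hax]
      obtain ⟨u, ⟨y, hy⟩, v, hv, rfl⟩ := Submodule.mem_sup.1 hm
      have hxv : x v = 0 := haE.2.1 (hVt hv)
      rw [map_add, hxv, add_zero]
      apply Submodule.mem_sup_right
      refine ⟨haE.2.2 ⟨u, rfl⟩, ?_⟩
      have h3 := congrArg (fun f : M →ₗ[k] M => f y) (hsts s (self_mem_cl hσ'.1) x haE)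
      change s (x (s y)) = 0 at h3
      rw [hy] at h3
      exact h3
    · rw [← sub_eq_zero, hax]
      obtain ⟨u, hu, v, hv, rfl⟩ := Submodule.mem_sup.1 hm
      rw [map_add, LinearMap.mem_ker.1 (haE.2.1 hu.2), LinearMap.mem_ker.1 (haE.2.1 (hVt hv.1)), add_zero]

end opp

end Cfsg.Agent.H742
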