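/-
Families of abstract root subgroups inside the subgroup they generate, and their components (helper742, section 63).
-/
import Cfsg.Agent.H742.SubOf
import Cfsg.Agent.H733.Connected

set_option autoImplicit false
open Cfsg

namespace Cfsg.Agent.H742

open Cfsg.Agent.H731 Cfsg.Agent.H733

variable {G : Type*} [Group G]

/-- `T` is a set of abstract root subgroups of the subgroup it generates. -/
structure Fam (T : Set (Subgroup G)) : Prop where
  comm : ∀ A ∈ T, IsMulCommutative ↥A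
  nb : ∀ A ∈ T, A ≠ ⊥
  conj : ∀ A ∈ T, ∀ g ∈ ⨆ B ∈ T, B, conjBy A g ∈ T
  pair : ∀ A ∈ T, ∀ B ∈ T, ⁅A, B⁆ = ⊥ ∨ IsRankOnePair A B ∨ RootCommutatorCase T A B

theorem commutator_le_gen {A B K : Subgroup G} (hA : A ≤ K) (hB : B ≤ K) : ⁅A, B⁆ ≤ K := by
  rw [Subgroup.commutator_le]
  intro a ha b hb
  rw [commutatorElement_def]
  exact K.mul_mem (K.mul_mem (K.mul_mem (hA ha) (hB hb)) (K.inv_mem (hA ha))) (K.inv_mem (hB hb))

theorem closure_commutator_subgroupOf {B K : Subgroup G} (hB : B ≤ K) (a : ↥K) :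
    (Subgroup.closure ((fun b : ↥K => a * b * a⁻¹ * b⁻¹) '' ((B.subgroupOf K : Subgroup ↥K) : Set ↥K))).map K.subtype =
      Subgroup.closure ((fun b : G => (a : G) * b * (a : G)⁻¹ * b⁻¹) '' (B : Set G)) := by
  rw [MonoidHom.map_closure]
  congr 1
  ext x
  constructor
  · rintro ⟨_, ⟨b, hb, rfl⟩, rfl⟩
    exact ⟨(b : G), hb, rfl⟩
  · rintro ⟨b, hb, rfl⟩
    exact ⟨_, ⟨⟨b, hB hb⟩, hb, rfl⟩, rfl⟩

theorem closure_commutator_subgroupOf' {A K : Subgroup G} (hA : A ≤ K) (b : ↥K) :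
    (Subgroup.closure ((fun a : ↥K => a * b * a⁻¹ * b⁻¹) '' ((A.subgroupOf K : Subgroup ↥K) : Set ↥K))).map K.subtype =
      Subgroup.closure ((fun a : G => a * (b : G) * a⁻¹ * (b : G)⁻¹) '' (A : Set G)) := by
  rw [MonoidHom.map_closure]
  congr 1
  ext x
  constructor
  · rintro ⟨_, ⟨a, ha, rfl⟩, rfl⟩
    exact ⟨(a : G), ha, rfl⟩
  · rintro ⟨a, ha, rfl⟩
    exact ⟨_, ⟨⟨a, hA ha⟩, ha, rfl⟩, rfl⟩

theorem rcc_subgroupOf_iff {T : Set (Subgroup G)} {K : Subgroup G} (hT : ∀ A ∈ T, A ≤ K) {A B : Subgroup G}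
    (hA : A ≤ K) (hB : B ≤ K) :
    RootCommutatorCase ((fun A : Subgroup G => A.subgroupOf K) '' T) (A.subgroupOf K) (B.subgroupOf K) ↔
      RootCommutatorCase T A B := by
  have hc := commutator_subgroupOf hA hB
  have hcle := commutator_le_gen hA hB
  constructor
  · rintro ⟨h1, h2, h3, h4⟩
    refine ⟨?_, ?_, ?_, ?_⟩
    · obtain ⟨C, hC, hCe⟩ := h1
      rw [hc] at hCe
      have : C = ⁅A, B⁆ := (subgroupOf_inj_iff (hT C hC) hcle).1 hCe
      rwa [← this]
    · intro c hcc x hx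
      have h5 := h2 ⟨c, hcle hcc⟩ (by rw [hc]; exact hcc) ⟨x, (sup_le hA hB) hx⟩ (by
        rw [sup_subgroupOf' hA hB]; exact hx)
      exact congrArg Subtype.val h5
    · intro a ha ha1
      have h5 := h3 ⟨a, hA ha⟩ ha (fun h => ha1 (congrArg Subtype.val h))
      have h6 := congrArg (Subgroup.map K.subtype) h5
      rw [closure_commutator_subgroupOf hB, hc, map_subtype_subgroupOf hcle] at h6
      exact h6
    · intro b hb hb1
      have h5 := h4 ⟨b, hB hb⟩ hb (fun h => hb1 (congrArg Subtype.val h))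
      have h6 := congrArg (Subgroup.map K.subtype) h5
      rw [closure_commutator_subgroupOf' hA, hc, map_subtype_subgroupOf hcle] at h6
      exact h6
  · rintro ⟨h1, h2, h3, h4⟩
    refine ⟨?_, ?_, ?_, ?_⟩
    · exact ⟨⁅A, B⁆, h1, hc.symm⟩
    · intro c hcc x hx
      rw [hc] at hcc
      rw [sup_subgroupOf' hA hB] at hx
      exact Subtype.ext (h2 _ hcc _ hx)
    · intro a ha ha1
      apply Subgroup.map_injective K.subtype_injective
      rw [closure_commutator_subgroupOf hB, hc, map_subtype_subgroupOf hcle]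
      exact h3 _ ha (fun h => ha1 (Subtype.ext h))
    · intro b hb hb1
      apply Subgroup.map_injective K.subtype_injective
      rw [closure_commutator_subgroupOf' hA, hc, map_subtype_subgroupOf hcle]
      exact h4 _ hb (fun h => hb1 (Subtype.ext h))

/-- the family inside the subgroup it generates -/
def famIn (T : Set (Subgroup G)) : Set (Subgroup ↥(⨆ B ∈ T, B)) :=
  (fun A : Subgroup G => A.subgroupOf (⨆ B ∈ T, B)) '' T

theorem Fam.rootSet {T : Set (Subgroup G)} (h : Fam T) : IsRootSubgroupSet (famIn T) where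
  commutative := by
    rintro _ ⟨A, hA, rfl⟩
    exact subgroupOf_comm (h.comm A hA)
  ne_bot := by
    rintro _ ⟨A, hA, rfl⟩
    exact subgroupOf_ne_bot (le_gen hA) (h.nb A hA)
  generates := subgroupOf_generates T
  conj_mem := by
    rintro _ ⟨A, hA, rfl⟩ g
    exact ⟨conjBy A (g : G), h.conj A hA g g.2, (conjBy_subgroupOf A g).symm⟩
  pair := by
    rintro _ ⟨A, hA, rfl⟩ _ ⟨B, hB, rfl⟩
    rcases h.pair A hA B hB with h1 | h1 | h1
    · exact Or.inl ((commutator_subgroupOf_eq_bot_iff (le_gen hA) (le_gen hB)).2 h1)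
    · exact Or.inr (Or.inl ((IsRankOnePair_subgroupOf_iff (le_gen hA) (le_gen hB)).2 h1))
    · exact Or.inr (Or.inr ((rcc_subgroupOf_iff (fun A hA => le_gen hA) (le_gen hA) (le_gen hB)).2 h1))

theorem reach_of_subgroupOf {T : Set (Subgroup G)} {X Y : Subgroup ↥(⨆ B ∈ T, B)}
    (h : Relation.ReflTransGen (FAdj (famIn T)) X Y) :
    Relation.ReflTransGen (FAdj T) (X.map (⨆ B ∈ T, B).subtype) (Y.map (⨆ B ∈ T, B).subtype) := by
  induction h with
  | refl => exact Relation.ReflTransGen.refl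
  | tail _ h2 ih =>
    refine ih.tail ?_
    obtain ⟨⟨A, hA, rfl⟩, ⟨B, hB, rfl⟩, h3⟩ := h2
    simp only at h3 ⊢
    rw [map_subtype_subgroupOf (le_gen hA), map_subtype_subgroupOf (le_gen hB)]
    exact ⟨hA, hB, (IsRankOnePair_subgroupOf_iff (le_gen hA) (le_gen hB)).1 h3⟩

theorem reach_famIn_iff {T : Set (Subgroup G)} {A B : Subgroup G} (hA : A ∈ T) (hB : B ∈ T) :
    Relation.ReflTransGen (FAdj (famIn T)) (A.subgroupOf (⨆ B ∈ T, B)) (B.subgroupOf (⨆ B ∈ T, B)) ↔
      Relation.ReflTransGen (FAdj T) A B := by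
  constructor
  · intro h
    have := reach_of_subgroupOf h
    rwa [map_subtype_subgroupOf (le_gen hA), map_subtype_subgroupOf (le_gen hB)] at this
  · exact reach_subgroupOf

theorem fAdj_partner_famIn {T : Set (Subgroup G)} (hF : ∀ A ∈ T, ∃ B ∈ T, IsRankOnePair A B) :
    ∀ A ∈ famIn T, ∃ B ∈ famIn T, IsRankOnePair A B := by
  rintro _ ⟨A, hA, rfl⟩
  obtain ⟨B, hB, h⟩ := hF A hA
  exact ⟨_, ⟨B, hB, rfl⟩, (IsRankOnePair_subgroupOf_iff (le_gen hA) (le_gen hB)).2 h⟩

theorem Fam.reach_or_commute {T : Set (Subgroup G)} (h : Fam T) (hF : ∀ A ∈ T, ∃ B ∈ T, IsRankOnePair A B)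
    {A B : Subgroup G} (hA : A ∈ T) (hB : B ∈ T) : Relation.ReflTransGen (FAdj T) A B ∨ ⁅A, B⁆ = ⊥ := by
  rcases H733.reach_or_commute h.rootSet (fAdj_partner_famIn hF) ⟨A, hA, rfl⟩ ⟨B, hB, rfl⟩ with h1 | h1
  · exact Or.inl ((reach_famIn_iff hA hB).1 h1)
  · exact Or.inr ((commutator_subgroupOf_eq_bot_iff (le_gen hA) (le_gen hB)).1 h1)

theorem Fam.reach_conjBy {T : Set (Subgroup G)} (h : Fam T) (hF : ∀ A ∈ T, ∃ B ∈ T, IsRankOnePair A B)
    {A : Subgroup G} (hA : A ∈ T) {g : G} (hg : g ∈ ⨆ B ∈ T, B) : Relation.ReflTransGen (FAdj T) A (conjBy A g) := by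
  have h1 := H733.reach_conjBy h.rootSet (fAdj_partner_famIn hF) ⟨A, hA, rfl⟩ ⟨g, hg⟩
  simp only at h1
  rw [conjBy_subgroupOf] at h1
  exact (reach_famIn_iff hA (h.conj A hA g hg)).1 h1

theorem Fam.reach_commutator {T : Set (Subgroup G)} (h : Fam T) (hF : ∀ A ∈ T, ∃ B ∈ T, IsRankOnePair A B)
    {A B : Subgroup G} (hA : A ∈ T) (hB : B ∈ T) (hAB : RootCommutatorCase T A B) :
    Relation.ReflTransGen (FAdj T) A ⁅A, B⁆ := by
  have hS := h.rootSet
  have hF' := fAdj_partner_famIn hF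
  have hA' : A.subgroupOf (⨆ B ∈ T, B) ∈ famIn T := ⟨A, hA, rfl⟩
  have hc := (rcc_subgroupOf_iff (K := ⨆ B ∈ T, B) (fun A hA => le_gen hA) (le_gen hA) (le_gen hB)).2 hAB
  have h1 := H733.rcc_linePartners hS hA' (hF' _ hA') hc
  have h2 := H733.reach_of_linePartners hS hc.1 (hF' _ hc.1) (hF' _ hA') h1
  have h3 := H733.reach_symm h2
  rw [commutator_subgroupOf (le_gen hA) (le_gen hB)] at h3
  exact (reach_famIn_iff hA hAB.1).1 h3

/-- the component of a member -/
theorem mem_componentOf {T : Set (Subgroup G)} {A B : Subgroup G} :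
    B ∈ componentOf (FAdj T) T A ↔ B ∈ T ∧ Relation.ReflTransGen (FAdj T) A B := Iff.rfl

theorem self_mem_componentOf {T : Set (Subgroup G)} {A : Subgroup G} (hA : A ∈ T) : A ∈ componentOf (FAdj T) T A :=
  ⟨hA, Relation.ReflTransGen.refl⟩

theorem componentOf_eq {T : Set (Subgroup G)} {A B : Subgroup G} (hB : B ∈ componentOf (FAdj T) T A) :
    componentOf (FAdj T) T B = componentOf (FAdj T) T A := by
  ext C
  constructor
  · intro h
    exact ⟨h.1, hB.2.trans h.2⟩
  · intro h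
    exact ⟨h.1, (H733.reach_symm hB.2).trans h.2⟩

theorem componentOf_subset {T : Set (Subgroup G)} {A : Subgroup G} : componentOf (FAdj T) T A ⊆ T := fun _ h => h.1

theorem gen_componentOf_le {T : Set (Subgroup G)} {A : Subgroup G} :
    (⨆ B ∈ componentOf (FAdj T) T A, B) ≤ ⨆ B ∈ T, B :=
  iSup₂_le fun _ hB => le_gen hB.1

theorem rcc_of_subset {T U : Set (Subgroup G)} {A B : Subgroup G} (h : RootCommutatorCase T A B) (h' : ⁅A, B⁆ ∈ U) :
    RootCommutatorCase U A B := ⟨h', h.2⟩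

/-- A component is again a family. -/
theorem Fam.component {T : Set (Subgroup G)} (h : Fam T) (hF : ∀ A ∈ T, ∃ B ∈ T, IsRankOnePair A B)
    {A : Subgroup G} : Fam (componentOf (FAdj T) T A) where
  comm B hB := h.comm B hB.1
  nb B hB := h.nb B hB.1
  conj B hB g hg := ⟨h.conj B hB.1 g (gen_componentOf_le hg), hB.2.trans (h.reach_conjBy hF hB.1 (gen_componentOf_le hg))⟩
  pair B hB C hC := by
    rcases h.pair B hB.1 C hC.1 with h1 | h1 | h1
    · exact Or.inl h1
    · exact Or.inr (Or.inl h1)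
    · exact Or.inr (Or.inr (rcc_of_subset h1 ⟨h1.1, hB.2.trans (h.reach_commutator hF hB.1 hC.1 h1)⟩))

theorem reach_in_component {T : Set (Subgroup G)} {A B C : Subgroup G} (hB : B ∈ componentOf (FAdj T) T A)
    (h : Relation.ReflTransGen (FAdj T) B C) :
    Relation.ReflTransGen (FAdj (componentOf (FAdj T) T A)) B C ∧ C ∈ componentOf (FAdj T) T A := by
  induction h with
  | refl => exact ⟨Relation.ReflTransGen.refl, hB⟩
  | @tail D E h1 h2 ih =>
    have hE : E ∈ componentOf (FAdj T) T A := ⟨h2.2.1, ih.2.2.tail h2⟩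
    exact ⟨ih.1.tail ⟨ih.2, hE, h2.2.2⟩, hE⟩

theorem component_connected {T : Set (Subgroup G)} {A : Subgroup G} :
    IsConnectedFamily (FAdj (componentOf (FAdj T) T A)) (componentOf (FAdj T) T A) := by
  intro B hB C hC
  exact (reach_in_component hB ((H733.reach_symm hB.2).trans hC.2)).1

theorem component_partner {T : Set (Subgroup G)} (hF : ∀ A ∈ T, ∃ B ∈ T, IsRankOnePair A B) {A : Subgroup G} :
    ∀ B ∈ componentOf (FAdj T) T A, ∃ C ∈ componentOf (FAdj T) T A, IsRankOnePair B C := by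
  intro B hB
  obtain ⟨C, hC, h⟩ := hF B hB.1
  exact ⟨C, ⟨hC, hB.2.tail ⟨hB.1, hC, h⟩⟩, h⟩

/-- connected families with partners are classes -/
theorem Fam.rootClass {T : Set (Subgroup G)} (h : Fam T) (hF : ∀ A ∈ T, ∃ B ∈ T, IsRankOnePair A B)
    (hne : T.Nonempty) (hcon : IsConnectedFamily (FAdj T) T) : IsRootSubgroupClass (famIn T) := by
  refine ⟨h.rootSet, ?_⟩
  have hcon' : IsConnectedFamily (FAdj (famIn T)) (famIn T) := by
    rintro _ ⟨A, hA, rfl⟩ _ ⟨B, hB, rfl⟩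
    exact reach_subgroupOf (hcon A hA B hB)
  obtain ⟨A, hA⟩ := hne
  have hA' : A.subgroupOf (⨆ B ∈ T, B) ∈ famIn T := ⟨A, hA, rfl⟩
  obtain ⟨B, hB, hAB⟩ := fAdj_partner_famIn hF _ hA'
  exact (class_of_connected ⟨_, hA', B, hB, hAB.ne⟩ hcon').1

/-- different components commute -/
theorem Fam.commute_of_not_reach {T : Set (Subgroup G)} (h : Fam T) (hF : ∀ A ∈ T, ∃ B ∈ T, IsRankOnePair A B)
    {A B : Subgroup G} (hne : componentOf (FAdj T) T A ≠ componentOf (FAdj T) T B) {C D : Subgroup G}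
    (hC : C ∈ componentOf (FAdj T) T A) (hD : D ∈ componentOf (FAdj T) T B) : ⁅C, D⁆ = ⊥ := by
  rcases h.reach_or_commute hF hC.1 hD.1 with h1 | h1
  · exfalso
    apply hne
    rw [← componentOf_eq hC, ← componentOf_eq hD]
    exact (componentOf_eq (T := T) (A := C) (B := D) ⟨hD.1, h1⟩).symm
  · exact h1

theorem disjoint_components {T : Set (Subgroup G)} {A B : Subgroup G}
    (hne : componentOf (FAdj T) T A ≠ componentOf (FAdj T) T B) :
    Disjoint (componentOf (FAdj T) T A) (componentOf (FAdj T) T B) := by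
  rw [Set.disjoint_left]
  intro C hC hC'
  exact hne ((componentOf_eq hC).symm.trans (componentOf_eq hC'))

/-- pairwise commuting families generate commuting subgroups -/
theorem commutator_iSup_eq_bot {T U : Set (Subgroup G)} (h : ∀ A ∈ T, ∀ B ∈ U, ⁅A, B⁆ = ⊥) :
    ⁅(⨆ A ∈ T, A), (⨆ B ∈ U, B)⁆ = ⊥ := by
  rw [Subgroup.commutator_eq_bot_iff_le_centralizer]
  refine iSup₂_le fun A hA => ?_
  rw [Subgroup.le_centralizer_iff]
  refine iSup₂_le fun B hB => ?_
  rw [← Subgroup.commutator_eq_bot_iff_le_centralizer, Subgroup.commutator_comm]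
  exact h A hA B hB

end Cfsg.Agent.H742
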