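/-
Existence of opposite root groups; unipotent normal subgroups are trivial; conclusions for quadratic pairs
(S5066, S5068, S5073) (helper742).
-/
import Cfsg.Agent.H742.UnipPair
import Cfsg.Agent.H740.BaerSuzuki

set_option autoImplicit false
open Cfsg

namespace Cfsg.Agent.H742

open Cfsg.Agent.H740 Cfsg.Agent.H731

variable {k : Type*} [Field k] {M : Type*} [AddCommGroup M] [Module k M] [FiniteDimensional k M]
variable {G : Subgroup (LinearMap.GeneralLinearGroup k M)}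

/-- Every unipotent normal subgroup of `G` is trivial. -/
def NoUnip (G : Subgroup (LinearMap.GeneralLinearGroup k M)) : Prop :=
  ∀ N : Subgroup (LinearMap.GeneralLinearGroup k M), N ≤ G → (∀ g ∈ G, conjBy N g = N) → IsUnipotentOn N → N = ⊥

omit [FiniteDimensional k M] in
/-- A unipotent group acting on a nonzero space has a nonzero fixed vector. -/
theorem exists_fixed {N : Subgroup (LinearMap.GeneralLinearGroup k M)} (hN : IsUnipotentOn N)
    (hM : ∃ m : M, m ≠ 0) : ∃ m ∈ fixedSubmodule N, m ≠ 0 := by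
  obtain ⟨n, hn⟩ := isUnipotentOn_def.1 hN
  -- the words
  let Q : ℕ → Prop := fun n => ∀ l : List (LinearMap.GeneralLinearGroup k M), (∀ g ∈ l, g ∈ N) → l.length = n →
      ∀ m : M, (l.map (fun g : LinearMap.GeneralLinearGroup k M => (g : M →ₗ[k] M) - 1)).prod m = 0
  have hQ : ∃ n, Q n := ⟨n, fun l hl hlen m => by rw [hn l hl hlen, LinearMap.zero_apply]⟩
  classical
  have hQn := Nat.find_spec hQ
  set n₀ := Nat.find hQ with hn₀
  have hn0 : n₀ ≠ 0 := by
    intro h0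
    rw [h0] at hQn
    obtain ⟨m, hm⟩ := hM
    exact hm (by simpa using hQn [] (by simp) rfl m)
  obtain ⟨n', hn'⟩ : ∃ n', n₀ = n' + 1 := ⟨n₀ - 1, by omega⟩
  have hmin : ¬ Q n' := Nat.find_min hQ (by omega)
  simp only [Q, not_forall] at hmin
  obtain ⟨l, hl, hlen, m, hm⟩ := hmin
  refine ⟨_, ?_, hm⟩
  rw [fixedSubmodule_mem]
  intro g hg
  have h1 := hQn (g :: l) (by
    intro x hx
    rcases List.mem_cons.1 hx with rfl | hx
    · exact hg
    · exact hl x hx) (by rw [List.length_cons, hlen, hn']) m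
  rw [List.map_cons, List.prod_cons, Module.End.mul_apply, LinearMap.sub_apply, Module.End.one_apply,
    sub_eq_zero] at h1
  exact h1

omit [FiniteDimensional k M] in
theorem noUnip_of_irreducible (h : IsIrreducibleFor G) : NoUnip G := by
  intro N hNG hN hu
  obtain ⟨m, hm, hm0⟩ := exists_fixed hu h.1
  have hinv : ∀ g ∈ G, ∀ w ∈ fixedSubmodule N, (g : M →ₗ[k] M) w ∈ fixedSubmodule N := by
    intro g hg w hw
    rw [fixedSubmodule_mem] at hw ⊢
    intro x hx
    have h1 : g⁻¹ * x * g ∈ N := by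
      rw [← hN g hg, mem_conjBy] at hx
      exact hx
    have h2 := hw _ h1
    have h3 : x * g = g * (g⁻¹ * x * g) := by group
    have h4 : (x : M →ₗ[k] M) ((g : M →ₗ[k] M) w) = (g : M →ₗ[k] M) (((g⁻¹ * x * g :
        LinearMap.GeneralLinearGroup k M) : M →ₗ[k] M) w) := by
      rw [← Module.End.mul_apply, ← Module.End.mul_apply, ← Units.val_mul, ← Units.val_mul, h3]
    rw [h4, h2]
  rcases h.2 (fixedSubmodule N) hinv with h1 | h1
  · rw [h1, Submodule.mem_bot] at hm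
    exact absurd hm hm0
  · rw [Subgroup.eq_bot_iff_forall]
    intro x hx
    apply Units.ext
    ext w
    have : w ∈ fixedSubmodule N := by rw [h1]; exact Submodule.mem_top
    rw [fixedSubmodule_mem] at this
    rw [this x hx, Units.val_one, Module.End.one_apply]

/-- **Opposite conjugates exist.** -/
theorem hasOpp_of_noUnip (hC : Core G) (hH : NoUnip G) : HasOpp G := by
  intro y hy
  by_contra hcon
  push Not at hcon
  have hσ : oneAdd y hy.sq ∈ minimalQuadraticElements G := oneAdd_mem_minimal hy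
  set σ := oneAdd y hy.sq with hσdef
  have hσy : (σ : M →ₗ[k] M) - 1 = y := by rw [hσdef, coe_oneAdd, add_sub_cancel_left]
  set W : Set (Subgroup (LinearMap.GeneralLinearGroup k M)) :=
    {A | ∃ g ∈ G, A = conjBy (sameActionSubgroup G σ) g} with hW
  have hWG : ∀ A ∈ W, A ≤ G := by
    rintro _ ⟨g, hg, rfl⟩
    rw [conjBy_sameActionSubgroup hσ hg]
    exact sameActionSubgroup_le (conj_mem_minimal hσ hg)
  have hWconj : ∀ A ∈ W, ∀ g ∈ G, conjBy A g ∈ W := by
    rintro _ ⟨h, hh, rfl⟩ g hg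
    exact ⟨g * h, G.mul_mem hg hh, conjBy_conjBy _ _ _⟩
  have hWW : ∀ A ∈ W, ∀ B ∈ W, IsUnipotentOn (A ⊔ B) := by
    rintro _ ⟨g, hg, rfl⟩ _ ⟨h, hh, rfl⟩
    rw [conjBy_sameActionSubgroup hσ hg, conjBy_sameActionSubgroup hσ hh]
    refine unipotent_case hC (conj_mem_minimal hσ hg) (conj_mem_minimal hσ hh) ?_
    have h1 := hcon (g⁻¹ * h) (G.mul_mem (G.inv_mem hg) hh)
    rw [coe_conj_sub_one, coe_conj_sub_one, hσy]
    -- conjugate by `g`
    have h2 : (g : M →ₗ[k] M) * y * ((g⁻¹ : LinearMap.GeneralLinearGroup k M) : M →ₗ[k] M) *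
        ((h : M →ₗ[k] M) * y * ((h⁻¹ : LinearMap.GeneralLinearGroup k M) : M →ₗ[k] M)) =
        conjL g (y * conjL (g⁻¹ * h) y) := by
      simp only [conjL_apply, Units.val_mul, mul_inv_rev, inv_inv]
      have e1 : ∀ z : M →ₗ[k] M, (g : M →ₗ[k] M) * (((g⁻¹ : LinearMap.GeneralLinearGroup k M) : M →ₗ[k] M) * z) = z := by
        intro z
        rw [← mul_assoc, Units.mul_inv, one_mul]
      simp only [mul_assoc]
      rw [Units.mul_inv, mul_one]
    rw [h2]
    obtain ⟨n, hn⟩ := h1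
    refine ⟨n, ?_⟩
    have h3 : ∀ (z : M →ₗ[k] M) (n : ℕ), (conjL g z) ^ n = conjL g (z ^ n) := by
      intro z n
      induction n with
      | zero => rw [pow_zero, pow_zero, conjL_apply, mul_one, Units.mul_inv]
      | succ n ih =>
        rw [pow_succ, ih, pow_succ]
        simp only [conjL_apply]
        calc _ = (g : M →ₗ[k] M) * z ^ n * (((g⁻¹ : LinearMap.GeneralLinearGroup k M) : M →ₗ[k] M) * (g : M →ₗ[k] M)) * z *
              ((g⁻¹ : LinearMap.GeneralLinearGroup k M) : M →ₗ[k] M) := by simp only [mul_assoc]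
          _ = _ := by rw [Units.inv_mul, mul_one, mul_assoc (g : M →ₗ[k] M)]
    rw [h3, hn, map_zero]
  have hu := isUnipotentOn_iSup hWG hWW hWconj
  have hn : ∀ g ∈ G, conjBy (⨆ A ∈ W, A) g = ⨆ A ∈ W, A := by
    have hle : ∀ g ∈ G, conjBy (⨆ A ∈ W, A) g ≤ ⨆ A ∈ W, A := by
      intro g hg
      rw [conjBy_iSup]
      apply iSup_le
      intro A
      rw [conjBy_iSup]
      apply iSup_le
      intro hA
      exact le_iSup₂_of_le (conjBy A g) (hWconj A hA g hg) le_rfl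
    intro g hg
    apply le_antisymm (hle g hg)
    have h1 := hle g⁻¹ (G.inv_mem hg)
    have h2 := (conjBy_le_conjBy (g := g)).2 h1
    rwa [conjBy_conjBy, mul_inv_cancel, conjBy_one] at h2
  have hbot := hH _ (iSup₂_le hWG) hn hu
  have h1 : sameActionSubgroup G σ ≤ ⨆ A ∈ W, A :=
    le_iSup₂_of_le (sameActionSubgroup G σ) ⟨1, G.one_mem, (conjBy_one _).symm⟩ le_rfl
  rw [hbot, le_bot_iff] at h1
  exact E_ne_bot hσ h1

/-! ### Conclusions -/

omit [FiniteDimensional k M] in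
/-- class-two pairs are nilpotent pairs -/
theorem nilpotent_of_class_two {σ τ : LinearMap.GeneralLinearGroup k M} (hσ : ((σ : M →ₗ[k] M) - 1) * ((σ : M →ₗ[k] M) - 1) = 0)
    (hτ : ((τ : M →ₗ[k] M) - 1) * ((τ : M →ₗ[k] M) - 1) = 0)
    (h : σ * (τ * σ * τ⁻¹) = (τ * σ * τ⁻¹) * σ) : IsNilpotent (((σ : M →ₗ[k] M) - 1) * ((τ : M →ₗ[k] M) - 1)) := by
  set s := (σ : M →ₗ[k] M) - 1 with hs
  set t := (τ : M →ₗ[k] M) - 1 with ht
  have hσe : σ = oneAdd s hσ := by rw [eq_oneAdd_iff, hs]; abel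
  have hτe : τ = oneAdd t hτ := by rw [eq_oneAdd_iff, ht]; abel
  have h1 := congrArg Units.val h
  simp only [Units.val_mul] at h1
  rw [hσe, hτe] at h1
  simp only [coe_oneAdd, coe_oneAdd_inv] at h1
  set c := (1 + t) * s * (1 - t) with hc
  have hc1 : (1 + t) * (1 + s) * (1 - t) = 1 + c := by
    have e : (1 + t) * (1 + s) * (1 - t) = 1 - t * t + (1 + t) * s * (1 - t) := by noncomm_ring
    rw [e, hτ, sub_zero]
  rw [hc1] at h1
  have h3 : s * c = c * s := by
    have e1 : (1 + s) * (1 + c) = 1 + c + s + s * c := by noncomm_ring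
    have e2 : (1 + c) * (1 + s) = 1 + c + s + c * s := by noncomm_ring
    rw [e1, e2] at h1
    exact add_left_cancel h1
  have h2 : s * t * s * t * s = 0 := by
    have e1 : s * c * s = s * s * s - s * s * t * s + s * t * (s * s) - s * t * s * t * s := by
      rw [hc]; noncomm_ring
    rw [h3, mul_assoc, hσ] at e1
    simp only [mul_zero, zero_mul, sub_zero, add_zero, zero_sub] at e1
    exact neg_eq_zero.1 e1.symm
  refine ⟨3, ?_⟩
  have e : (s * t) ^ 3 = (s * t * s * t * s) * t := by noncomm_ring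
  rw [e, h2, zero_mul]

omit [FiniteDimensional k M] in
theorem closure_eq_of_surj {A L : Subgroup (LinearMap.GeneralLinearGroup k M)}
    {φ : LinearMap.GeneralLinearGroup k M → LinearMap.GeneralLinearGroup k M} (h1 : ∀ a ∈ A, φ a ∈ L)
    (h2 : ∀ z ∈ L, ∃ a ∈ A, φ a = z) : Subgroup.closure (φ '' (A : Set (LinearMap.GeneralLinearGroup k M))) = L := by
  apply le_antisymm
  · rw [Subgroup.closure_le]
    rintro _ ⟨a, ha, rfl⟩
    exact h1 a ha
  · intro z hz
    obtain ⟨a, ha, rfl⟩ := h2 z hz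
    exact Subgroup.subset_closure ⟨a, ha, rfl⟩

omit [FiniteDimensional k M] in
/-- commutators in `A ⊔ B` when `[A,B] ⊆ L` is central, `A`, `B` abelian -/
theorem commutator_sup_le {A B L : Subgroup (LinearMap.GeneralLinearGroup k M)}
    (hA : ∀ a ∈ A, ∀ a' ∈ A, a * a' = a' * a) (hB : ∀ b ∈ B, ∀ b' ∈ B, b * b' = b' * b)
    (hL : ∀ a ∈ A, ∀ b ∈ B, a * b * a⁻¹ * b⁻¹ ∈ L) (hLA : ∀ z ∈ L, ∀ a ∈ A, z * a = a * z)
    (hLB : ∀ z ∈ L, ∀ b ∈ B, z * b = b * z) : ⁅A ⊔ B, A ⊔ B⁆ ≤ L := by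
  have hcent : ∀ g ∈ A ⊔ B, ∀ z ∈ L, z * g = g * z := fun g hg z hz =>
    comm_of_mem_sup (hLA z hz) (hLB z hz) hg
  -- for fixed `x ∈ A ⊔ B`, the `y` with `[x, y] ∈ L`
  let K : LinearMap.GeneralLinearGroup k M → Subgroup (LinearMap.GeneralLinearGroup k M) := fun x =>
    { carrier := {y | y ∈ A ⊔ B ∧ x * y * x⁻¹ * y⁻¹ ∈ L}
      one_mem' := ⟨Subgroup.one_mem _, by
        have : x * 1 * x⁻¹ * (1 : LinearMap.GeneralLinearGroup k M)⁻¹ = 1 := by group
        rw [this]; exact Subgroup.one_mem _⟩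
      mul_mem' := by
        rintro a b ⟨ha, ha'⟩ ⟨hb, hb'⟩
        refine ⟨Subgroup.mul_mem _ ha hb, ?_⟩
        have h1 := hcent a ha _ hb'
        have : x * (a * b) * x⁻¹ * (a * b)⁻¹ = (x * a * x⁻¹ * a⁻¹) * (a * (x * b * x⁻¹ * b⁻¹) * a⁻¹) := by group
        have h8 : a * (x * b * x⁻¹ * b⁻¹) * a⁻¹ = x * b * x⁻¹ * b⁻¹ := by
          rw [← h1, mul_inv_cancel_right]
        rw [this, h8]
        exact L.mul_mem ha' hb'
      inv_mem' := by
        rintro a ⟨ha, ha'⟩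
        refine ⟨Subgroup.inv_mem _ ha, ?_⟩
        have h1 := hcent a ha _ (L.inv_mem ha')
        have : x * a⁻¹ * x⁻¹ * a⁻¹⁻¹ = a⁻¹ * ((x * a * x⁻¹ * a⁻¹)⁻¹ * a) := by group
        rw [this, h1, inv_mul_cancel_left]
        exact L.inv_mem ha' }
  have hswap : ∀ x y, x * y * x⁻¹ * y⁻¹ ∈ L → y * x * y⁻¹ * x⁻¹ ∈ L := by
    intro x y h
    have := L.inv_mem h
    have e : (x * y * x⁻¹ * y⁻¹)⁻¹ = y * x * y⁻¹ * x⁻¹ := by group
    rwa [e] at this
  have h1 : ∀ x ∈ A, ∀ y ∈ A ⊔ B, x * y * x⁻¹ * y⁻¹ ∈ L := by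
    intro x hx y hy
    have : A ⊔ B ≤ K x := by
      apply sup_le
      · intro a ha
        refine ⟨Subgroup.mem_sup_left ha, ?_⟩
        rw [hA x hx a ha]
        have : a * x * x⁻¹ * a⁻¹ = 1 := by group
        rw [this]; exact L.one_mem
      · intro b hb
        exact ⟨Subgroup.mem_sup_right hb, hL x hx b hb⟩
    exact (this hy).2
  have h2 : ∀ x ∈ B, ∀ y ∈ A ⊔ B, x * y * x⁻¹ * y⁻¹ ∈ L := by
    intro x hx y hy
    have : A ⊔ B ≤ K x := by
      apply sup_le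
      · intro a ha
        exact ⟨Subgroup.mem_sup_left ha, hswap _ _ (hL a ha x hx)⟩
      · intro b hb
        refine ⟨Subgroup.mem_sup_right hb, ?_⟩
        rw [hB x hx b hb]
        have : b * x * x⁻¹ * b⁻¹ = 1 := by group
        rw [this]; exact L.one_mem
    exact (this hy).2
  rw [Subgroup.commutator_le]
  intro x hx y hy
  rw [commutatorElement_def]
  have : A ⊔ B ≤ K y := by
    apply sup_le
    · intro a ha
      exact ⟨Subgroup.mem_sup_left ha, hswap _ _ (h1 a ha y hy)⟩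
    · intro b hb
      exact ⟨Subgroup.mem_sup_right hb, hswap _ _ (h2 b hb y hy)⟩
  exact hswap _ _ (this hx).2

/-- **Main conclusion for non-commuting nilpotent pairs of members of `Σ(G)`.** -/
theorem unipotent_conclusion (hC : Core G) (hO : HasOpp G) {E F : Subgroup (LinearMap.GeneralLinearGroup k M)}
    (hE : E ∈ quadraticRootSubgroups G) (hF : F ∈ quadraticRootSubgroups G)
    (hn : ∀ e ∈ E, ∀ f ∈ F, IsNilpotent (((e : M →ₗ[k] M) - 1) * ((f : M →ₗ[k] M) - 1)))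
    (hne : ⁅E, F⁆ ≠ ⊥) :
    (⁅E, F⁆ ∈ quadraticRootSubgroups G ∧
      (∀ e ∈ E, e ≠ 1 → Subgroup.closure ((fun f : LinearMap.GeneralLinearGroup k M => e * f * e⁻¹ * f⁻¹) '' (F : Set (LinearMap.GeneralLinearGroup k M))) = ⁅E, F⁆) ∧
      (∀ f ∈ F, f ≠ 1 → Subgroup.closure ((fun e : LinearMap.GeneralLinearGroup k M => e * f * e⁻¹ * f⁻¹) '' (E : Set (LinearMap.GeneralLinearGroup k M))) = ⁅E, F⁆) ∧
      ⁅E ⊔ F, E ⊔ F⁆ ≠ ⊥ ∧ ⁅⁅E ⊔ F, E ⊔ F⁆, E ⊔ F⁆ = ⊥ ∧
      ((E ⊔ F : Subgroup (LinearMap.GeneralLinearGroup k M)) : Set (LinearMap.GeneralLinearGroup k M)) ⊆ quadraticUnipotentCore G ⁅E, F⁆) ∧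
    (∀ e ∈ E, ∀ f ∈ F, e ≠ 1 → f ≠ 1 → e * f ≠ f * e) := by
  rw [Ne, commutator_eq_bot_iff_forall] at hne
  push Not at hne
  obtain ⟨σ, hσE, τ, hτF, hστ⟩ := hne
  have hσ1 : σ ≠ 1 := by rintro rfl; simp at hστ
  have hτ1 : τ ≠ 1 := by rintro rfl; simp at hστ
  obtain ⟨hσ, rfl⟩ := eq_sameActionSubgroup hE hσ1 hσE
  obtain ⟨hτ, rfl⟩ := eq_sameActionSubgroup hF hτ1 hτF
  obtain ⟨lam, hlam, h1, h2, h3, h4, h5, h6, h7⟩ := unipotent_main hC hO hσ hτ (hn σ hσE τ hτF) hστ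
  have hEF : ⁅sameActionSubgroup G σ, sameActionSubgroup G τ⁆ = sameActionSubgroup G lam := by
    apply le_antisymm
    · rw [Subgroup.commutator_le]
      intro e he f hf
      rw [commutatorElement_def]
      exact h1 e he f hf
    · intro z hz
      obtain ⟨f, hf, rfl⟩ := h2 σ hσE hσ1 z hz
      have := Subgroup.commutator_mem_commutator (H₁ := sameActionSubgroup G σ) hσE hf
      rwa [commutatorElement_def] at this
  rw [hEF]
  refine ⟨⟨⟨lam, hlam, rfl⟩, ?_, ?_, ?_, ?_, h7⟩, h4⟩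
  · intro e he he1
    exact closure_eq_of_surj (fun f hf => h1 e he f hf) (fun z hz => h2 e he he1 z hz)
  · intro f hf hf1
    exact closure_eq_of_surj (fun e he => h1 e he f hf) (fun z hz => h3 f hf hf1 z hz)
  · intro h0
    have h8 : ⁅sameActionSubgroup G σ, sameActionSubgroup G τ⁆ ≤
        ⁅sameActionSubgroup G σ ⊔ sameActionSubgroup G τ, sameActionSubgroup G σ ⊔ sameActionSubgroup G τ⁆ :=
      Subgroup.commutator_mono le_sup_left le_sup_right
    rw [h0, le_bot_iff, hEF] at h8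
    exact E_ne_bot hlam h8
  · rw [eq_bot_iff]
    have h8 : ⁅sameActionSubgroup G σ ⊔ sameActionSubgroup G τ, sameActionSubgroup G σ ⊔ sameActionSubgroup G τ⁆ ≤
        sameActionSubgroup G lam :=
      commutator_sup_le (fun a ha b hb => E_comm hσ ha hb) (fun a ha b hb => E_comm hτ ha hb) h1 h5 h6
    refine (Subgroup.commutator_mono h8 le_rfl).trans ?_
    rw [commutator_eq_bot_iff_forall.2]
    intro z hz g hg
    exact comm_of_mem_sup (h5 z hz) (h6 z hz) hg

/-- S5066: the class two case. -/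
theorem class_two_conclusion {E F : Subgroup (LinearMap.GeneralLinearGroup k M)}
    (hE : E ∈ quadraticRootSubgroups G) (hF : F ∈ quadraticRootSubgroups G)
    (h2 : ⁅E ⊔ F, E ⊔ F⁆ ≠ ⊥ ∧ ⁅⁅E ⊔ F, E ⊔ F⁆, E ⊔ F⁆ = ⊥) :
    (∀ e ∈ E, ∀ f ∈ F, IsNilpotent (((e : M →ₗ[k] M) - 1) * ((f : M →ₗ[k] M) - 1))) ∧ ⁅E, F⁆ ≠ ⊥ := by
  obtain ⟨h2a, h2b⟩ := h2
  obtain ⟨σ, hσ, rfl⟩ := hE
  obtain ⟨τ, hτ, rfl⟩ := hF
  constructor
  · intro e he f hf
    refine nilpotent_of_class_two ((mem_E_iff hσ).1 he).1.sq ((mem_E_iff hτ).1 hf).1.sq ?_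
    have hc : f * e * f⁻¹ * e⁻¹ ∈ ⁅sameActionSubgroup G σ ⊔ sameActionSubgroup G τ, sameActionSubgroup G σ ⊔ sameActionSubgroup G τ⁆ := by
      have := Subgroup.commutator_mem_commutator (H₁ := sameActionSubgroup G σ ⊔ sameActionSubgroup G τ)
        (H₂ := sameActionSubgroup G σ ⊔ sameActionSubgroup G τ) (Subgroup.mem_sup_right hf) (Subgroup.mem_sup_left he)
      rwa [commutatorElement_def] at this
    have h3 := commutator_eq_bot_iff_forall.1 h2b _ hc e (Subgroup.mem_sup_left he)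
    have h4 : f * e * f⁻¹ * e⁻¹ * e = f * e * f⁻¹ := by group
    rw [h4] at h3
    have h5 : e * (f * e * f⁻¹) = e * (f * e * f⁻¹ * e⁻¹) * e := by group
    rw [h5, ← h3]
  · intro h0
    apply h2a
    rw [eq_bot_iff]
    rw [commutator_eq_bot_iff_forall] at h0
    refine commutator_sup_le (fun a ha b hb => E_comm hσ ha hb) (fun a ha b hb => E_comm hτ ha hb) ?_ ?_ ?_
    · intro a ha b hb
      rw [Subgroup.mem_bot, h0 a ha b hb]
      group
    · intro z hz a _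
      rw [Subgroup.mem_bot.1 hz, one_mul, mul_one]
    · intro z hz a _
      rw [Subgroup.mem_bot.1 hz, one_mul, mul_one]

end Cfsg.Agent.H742
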