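/-
Quadratic pairs: Σ(G) is a set of abstract root subgroups of the group it generates; SL₂-subpairs (helper742).
-/
import Cfsg.Agent.H742.Fam
import Cfsg.Agent.H742.HasOppOf

set_option autoImplicit false
set_option linter.unusedSimpArgs false
open Cfsg

namespace Cfsg.Agent.H742

open Cfsg.Agent.H740 Cfsg.Agent.H731

/-! ### SL₂ from an inverse pair -/

section sl

variable {k : Type*} [Field k] {M : Type*} [AddCommGroup M] [Module k M]
variable {G : Subgroup (LinearMap.GeneralLinearGroup k M)}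

/-- the endomorphism attached to a 2x2 matrix -/
def slMap (s t : M →ₗ[k] M) (g : Matrix.SpecialLinearGroup (Fin 2) k) : M →ₗ[k] M :=
  (1 - (s * t + t * s)) + ((g : Matrix (Fin 2) (Fin 2) k) 0 0 • (s * t) + (g : Matrix (Fin 2) (Fin 2) k) 0 1 • s +
    (g : Matrix (Fin 2) (Fin 2) k) 1 0 • t + (g : Matrix (Fin 2) (Fin 2) k) 1 1 • (t * s))

theorem Inv.slMap_one {s t : M →ₗ[k] M} (_h : Inv s t) : slMap s t 1 = 1 := by
  rw [slMap, one_00, one_01, one_10, one_11]
  simp only [one_smul, zero_smul, add_zero]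
  abel

theorem Inv.slMap_mul {s t : M →ₗ[k] M} (h : Inv s t) (g g' : Matrix.SpecialLinearGroup (Fin 2) k) :
    slMap s t (g * g') = slMap s t g * slMap s t g' := by
  have t11 : (s * t) * (s * t) = s * t := by rw [← mul_assoc, h.sts]
  have t12 : (s * t) * s = s := h.sts
  have t13 : (s * t) * t = 0 := by rw [mul_assoc, h.tt, mul_zero]
  have t14 : (s * t) * (t * s) = 0 := by rw [← mul_assoc, t13, zero_mul]
  have t21 : s * (s * t) = 0 := by rw [← mul_assoc, h.ss, zero_mul]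
  have t22 : s * s = 0 := h.ss
  have t24 : s * (t * s) = s := by rw [← mul_assoc, h.sts]
  have t31 : t * (s * t) = t := by rw [← mul_assoc, h.tst]
  have t33 : t * t = 0 := h.tt
  have t34 : t * (t * s) = 0 := by rw [← mul_assoc, h.tt, zero_mul]
  have t41 : (t * s) * (s * t) = 0 := by rw [mul_assoc, t21, mul_zero]
  have t42 : (t * s) * s = 0 := by rw [mul_assoc, h.ss, mul_zero]
  have t43 : (t * s) * t = t := h.tst
  have t44 : (t * s) * (t * s) = t * s := by rw [mul_assoc, t24]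
  simp only [slMap, sl2_mul]
  generalize (g : Matrix (Fin 2) (Fin 2) k) 0 0 = a
  generalize (g : Matrix (Fin 2) (Fin 2) k) 0 1 = b
  generalize (g : Matrix (Fin 2) (Fin 2) k) 1 0 = c
  generalize (g : Matrix (Fin 2) (Fin 2) k) 1 1 = d
  generalize (g' : Matrix (Fin 2) (Fin 2) k) 0 0 = a'
  generalize (g' : Matrix (Fin 2) (Fin 2) k) 0 1 = b'
  generalize (g' : Matrix (Fin 2) (Fin 2) k) 1 0 = c'
  generalize (g' : Matrix (Fin 2) (Fin 2) k) 1 1 = d'
  simp only [mul_add, add_mul, mul_sub, sub_mul, one_mul, mul_one, smul_mul_assoc, mul_smul_comm, t11, t12, t13, t14,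
    t21, t22, t24, t31, t33, t34, t41, t42, t43, t44, smul_zero, add_zero, zero_add]
  module

/-- the representation of SL₂ attached to an inverse pair -/
noncomputable def Inv.slHom {s t : M →ₗ[k] M} (h : Inv s t) :
    Matrix.SpecialLinearGroup (Fin 2) k →* LinearMap.GeneralLinearGroup k M :=
  MonoidHom.toHomUnits
    { toFun := slMap s t
      map_one' := h.slMap_one
      map_mul' := h.slMap_mul }

theorem Inv.coe_slHom {s t : M →ₗ[k] M} (h : Inv s t) (g : Matrix.SpecialLinearGroup (Fin 2) k) :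
    (h.slHom g : M →ₗ[k] M) = slMap s t g := rfl

theorem Inv.slHom_up {s t : M →ₗ[k] M} (h : Inv s t) (c : k) : (h.slHom (up k c) : M →ₗ[k] M) = 1 + c • s := by
  rw [h.coe_slHom, slMap, up_00, up_01, up_10, up_11]
  module

theorem Inv.slHom_lo {s t : M →ₗ[k] M} (h : Inv s t) (c : k) : (h.slHom (lo k c) : M →ₗ[k] M) = 1 + c • t := by
  rw [h.coe_slHom, slMap, lo_00, lo_01, lo_10, lo_11]
  module

theorem Inv.slHom_ker {s t : M →ₗ[k] M} (h : Inv s t) (hs : s ≠ 0) : h.slHom.ker = ⊥ := by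
  rw [Subgroup.eq_bot_iff_forall]
  intro g hg
  rw [MonoidHom.mem_ker] at hg
  have h1 := congrArg Units.val hg
  rw [h.coe_slHom, slMap, Units.val_one] at h1
  set a := (g : Matrix (Fin 2) (Fin 2) k) 0 0 with ha
  set b := (g : Matrix (Fin 2) (Fin 2) k) 0 1 with hb
  set c := (g : Matrix (Fin 2) (Fin 2) k) 1 0 with hc
  set d := (g : Matrix (Fin 2) (Fin 2) k) 1 1 with hd
  have t11 : (s * t) * (s * t) = s * t := by rw [← mul_assoc, h.sts]
  have t12 : (s * t) * s = s := h.sts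
  have t13 : (s * t) * t = 0 := by rw [mul_assoc, h.tt, mul_zero]
  have t14 : (s * t) * (t * s) = 0 := by rw [← mul_assoc, t13, zero_mul]
  have t21 : s * (s * t) = 0 := by rw [← mul_assoc, h.ss, zero_mul]
  have t22 : s * s = 0 := h.ss
  have t24 : s * (t * s) = s := by rw [← mul_assoc, h.sts]
  have t31 : t * (s * t) = t := by rw [← mul_assoc, h.tst]
  have t33 : t * t = 0 := h.tt
  have t34 : t * (t * s) = 0 := by rw [← mul_assoc, h.tt, zero_mul]
  have t41 : (t * s) * (s * t) = 0 := by rw [mul_assoc, t21, mul_zero]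
  have t42 : (t * s) * s = 0 := by rw [mul_assoc, h.ss, mul_zero]
  have t43 : (t * s) * t = t := h.tst
  have t44 : (t * s) * (t * s) = t * s := by rw [mul_assoc, t24]
  have key : ∀ x y : M →ₗ[k] M, x * (1 - (s * t + t * s) + (a • (s * t) + b • s + c • t + d • (t * s))) * y = x * y := by
    intro x y; rw [h1, mul_one]
  -- coefficient of `s`
  have h2 : ∀ e : k, e • s = 0 → e = 0 := by
    intro e he
    by_contra hne
    exact hs (by rw [← one_smul k s, ← inv_mul_cancel₀ hne, mul_smul, he, smul_zero])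
  -- a = 1 : (s t) g s = s
  have ka := key (s * t) s
  simp only [mul_add, add_mul, mul_sub, sub_mul, one_mul, mul_one, smul_mul_assoc, mul_smul_comm, t11, t12, t13, t14,
    t21, t22, t24, t31, t33, t34, t41, t42, t43, t44, smul_zero, add_zero, zero_add, sub_zero, zero_mul, mul_zero,
    sub_self] at ka
  have kb := key (s * t) (t * s)
  simp only [mul_add, add_mul, mul_sub, sub_mul, one_mul, mul_one, smul_mul_assoc, mul_smul_comm, t11, t12, t13, t14,
    t21, t22, t24, t31, t33, t34, t41, t42, t43, t44, smul_zero, add_zero, zero_add, sub_zero, zero_mul, mul_zero,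
    sub_self] at kb
  have kc := key s s
  simp only [mul_add, add_mul, mul_sub, sub_mul, one_mul, mul_one, smul_mul_assoc, mul_smul_comm, t11, t12, t13, t14,
    t21, t22, t24, t31, t33, t34, t41, t42, t43, t44, smul_zero, add_zero, zero_add, sub_zero, zero_mul, mul_zero,
    sub_self] at kc
  have kd := key s (t * s)
  simp only [mul_add, add_mul, mul_sub, sub_mul, one_mul, mul_one, smul_mul_assoc, mul_smul_comm, t11, t12, t13, t14,
    t21, t22, t24, t31, t33, t34, t41, t42, t43, t44, smul_zero, add_zero, zero_add, sub_zero, zero_mul, mul_zero,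
    sub_self] at kd
  have ha1 : a = 1 := by
    have : (a - 1) • s = 0 := by rw [sub_smul, one_smul, ka, sub_self]
    exact sub_eq_zero.1 (h2 _ this)
  have hb1 : b = 0 := h2 _ kb
  have hc1 : c = 0 := h2 _ kc
  have hd1 : d = 1 := by
    have : (d - 1) • s = 0 := by rw [sub_smul, one_smul, kd, sub_self]
    exact sub_eq_zero.1 (h2 _ this)
  apply sl2_ext
  · rw [one_00]; exact ha1
  · rw [one_01]; exact hb1
  · rw [one_10]; exact hc1
  · rw [one_11]; exact hd1

/-- the one-parameter group `{1 + c s}` -/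
def lineGrp (s : M →ₗ[k] M) (hs : s * s = 0) : Subgroup (LinearMap.GeneralLinearGroup k M) where
  carrier := {x | ∃ c : k, (x : M →ₗ[k] M) = 1 + c • s}
  one_mem' := ⟨0, by rw [zero_smul, add_zero, Units.val_one]⟩
  mul_mem' := by
    rintro x y ⟨c, hc⟩ ⟨d, hd⟩
    refine ⟨c + d, ?_⟩
    rw [Units.val_mul, hc, hd]
    simp only [mul_add, add_mul, one_mul, mul_one, smul_mul_assoc, mul_smul_comm, hs, smul_zero, add_zero, add_smul]
    abel
  inv_mem' := by
    rintro x ⟨c, hc⟩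
    refine ⟨-c, ?_⟩
    have h1 : (x : M →ₗ[k] M) * (1 + (-c) • s) = 1 := by
      rw [hc, mul_add, mul_one, add_mul, one_mul, smul_mul_assoc, mul_smul_comm, hs, smul_zero, smul_zero, add_zero,
        neg_smul, add_assoc, add_neg_cancel, add_zero]
    have h2 : ((x⁻¹ : LinearMap.GeneralLinearGroup k M) : M →ₗ[k] M) * (x : M →ₗ[k] M) = 1 := Units.inv_mul x
    calc ((x⁻¹ : LinearMap.GeneralLinearGroup k M) : M →ₗ[k] M) =
        ((x⁻¹ : LinearMap.GeneralLinearGroup k M) : M →ₗ[k] M) * ((x : M →ₗ[k] M) * (1 + (-c) • s)) := by rw [h1, mul_one]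
      _ = 1 + (-c) • s := by rw [← mul_assoc, h2, one_mul]

theorem mem_lineGrp {s : M →ₗ[k] M} {hs : s * s = 0} {x : LinearMap.GeneralLinearGroup k M} :
    x ∈ lineGrp s hs ↔ ∃ c : k, (x : M →ₗ[k] M) = 1 + c • s := Iff.rfl

/-- `⟨1 + k s, 1 + k t⟩ ≅ SL₂(k)` for an inverse pair. -/
theorem Inv.isPSL2PairOver {s t : M →ₗ[k] M} (h : Inv s t) (hs : s ≠ 0) :
    IsPSL2PairOver k (lineGrp s h.ss) (lineGrp t h.tt) := by
  have hU : (upperUnipotentSL2 k).map h.slHom = lineGrp s h.ss := by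
    ext x
    constructor
    · rintro ⟨u, hu, rfl⟩
      obtain ⟨c, rfl⟩ := mem_upper_iff.1 hu
      exact ⟨c, h.slHom_up c⟩
    · rintro ⟨c, hc⟩
      exact ⟨up k c, up_mem c, Units.ext ((h.slHom_up c).trans hc.symm)⟩
  have hL : (lowerUnipotentSL2 k).map h.slHom = lineGrp t h.tt := by
    ext x
    constructor
    · rintro ⟨u, hu, rfl⟩
      obtain ⟨c, rfl⟩ := mem_lower_iff.1 hu
      exact ⟨c, h.slHom_lo c⟩
    · rintro ⟨c, hc⟩
      exact ⟨lo k c, lo_mem c, Units.ext ((h.slHom_lo c).trans hc.symm)⟩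
  refine ⟨h.slHom, ?_, ?_, hU, hL⟩
  · rw [MonoidHom.range_eq_map, ← lower_sup_upper, Subgroup.map_sup, hU, hL, sup_comm]
  · rw [h.slHom_ker hs]
    exact bot_le

theorem three_lt_card (hk2 : ringChar k ≠ 2) (hk3 : Nat.card k ≠ 3) : 3 < ENat.card k := by
  have h2 : (2 : k) ≠ 0 := Ring.two_ne_zero hk2
  by_cases hf : Finite k
  · have : Fintype k := Fintype.ofFinite k
    rw [ENat.card_eq_coe_natCard]
    have h0 : (0 : k) ≠ 1 := zero_ne_one
    have h1 : (0 : k) ≠ -1 := fun h => h0 (by simpa using congrArg Neg.neg h)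
    have h3 : (1 : k) ≠ -1 := fun h => h2 (by linear_combination h)
    have h4 : 3 ≤ Nat.card k := by
      classical
      have h5 : ({0, 1, -1} : Finset k).card = 3 := by
        rw [Finset.card_insert_of_notMem, Finset.card_insert_of_notMem, Finset.card_singleton]
        · simpa using h3
        · simp only [Finset.mem_insert, Finset.mem_singleton, not_or]
          exact ⟨h0, h1⟩
      rw [← h5, Nat.card_eq_fintype_card]
      exact Finset.card_le_univ _
    have h6 : 3 < Nat.card k := lt_of_le_of_ne h4 (Ne.symm hk3)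
    exact_mod_cast h6
  · rw [not_finite_iff_infinite] at hf
    rw [ENat.card_eq_top_of_infinite]
    exact ENat.natCast_lt_top 3

end sl

variable {k : Type*} [Field k] {M : Type*} [AddCommGroup M] [Module k M] [FiniteDimensional k M]
variable {G : Subgroup (LinearMap.GeneralLinearGroup k M)}

/-! ### Σ(G) is a family -/

theorem gen_sigma_le : (⨆ A ∈ quadraticRootSubgroups G, A) ≤ G := by
  refine iSup₂_le ?_
  rintro _ ⟨σ, hσ, rfl⟩
  exact sameActionSubgroup_le hσ

theorem unip_or_opp (hC : Core G) {σ τ : LinearMap.GeneralLinearGroup k M} (hσ : σ ∈ minimalQuadraticElements G)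
    (hτ : τ ∈ minimalQuadraticElements G) (hn : IsNilpotent (((σ : M →ₗ[k] M) - 1) * ((τ : M →ₗ[k] M) - 1))) :
    ∀ e ∈ sameActionSubgroup G σ, ∀ f ∈ sameActionSubgroup G τ,
      IsNilpotent (((e : M →ₗ[k] M) - 1) * ((f : M →ₗ[k] M) - 1)) := by
  intro e he f hf
  by_cases he1 : e = 1
  · rw [he1, Units.val_one, sub_self, zero_mul]; exact IsNilpotent.zero
  by_cases hf1 : f = 1
  · rw [hf1, Units.val_one, sub_self, mul_zero]; exact IsNilpotent.zero
  have hem := mem_minimal_of_mem hσ he he1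
  have hfm := mem_minimal_of_mem hτ hf hf1
  refine (hC.not_isNilpotent_congr (mem_minimalQuadraticElements_iff.1 hσ) (mem_minimalQuadraticElements_iff.1 hτ)
    (mem_minimalQuadraticElements_iff.1 hem) (mem_minimalQuadraticElements_iff.1 hfm) ?_ ?_).1 hn
  · exact ⟨(ker_eq_of_mem hσ he he1).symm, (range_eq_of_mem hσ he he1).symm⟩
  · exact ⟨(ker_eq_of_mem hτ hf hf1).symm, (range_eq_of_mem hτ hf hf1).symm⟩

theorem sigma_fam (hC : Core G) (hO : HasOpp G) : Fam (quadraticRootSubgroups G) where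
  comm := by
    rintro _ ⟨σ, hσ, rfl⟩
    exact E_isMulCommutative hσ
  nb := by
    rintro _ ⟨σ, hσ, rfl⟩
    exact E_ne_bot hσ
  conj A hA g hg := conjBy_mem_quadraticRootSubgroups hA (gen_sigma_le hg)
  pair := by
    intro A hA B hB
    obtain ⟨σ, hσ, rfl⟩ := id hA
    obtain ⟨τ, hτ, rfl⟩ := id hB
    by_cases hn : IsNilpotent (((σ : M →ₗ[k] M) - 1) * ((τ : M →ₗ[k] M) - 1))
    · have hn' := unip_or_opp hC hσ hτ hn
      by_cases hne : ⁅sameActionSubgroup G σ, sameActionSubgroup G τ⁆ = ⊥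
      · exact Or.inl hne
      · right; right
        obtain ⟨⟨h1, h2, h3, h4, h5, h6⟩, -⟩ := unipotent_conclusion hC hO hA hB hn' hne
        refine ⟨h1, ?_, h2, h3⟩
        intro c hc x hx
        refine commutator_eq_bot_iff_forall.1 h5 c ?_ x hx
        exact Subgroup.commutator_mono le_sup_left le_sup_right hc
    · exact Or.inr (Or.inl (rankOnePair_of_not_nilpotent hC hσ hτ hn).1)

/-- no isolated vertices -/
theorem sigma_partner (hC : Core G) (hO : HasOpp G) :
    ∀ A ∈ quadraticRootSubgroups G, ∃ B ∈ quadraticRootSubgroups G, IsRankOnePair A B := by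
  rintro _ ⟨σ, hσ, rfl⟩
  obtain ⟨g, hg, hn⟩ := hO _ (mem_minimalQuadraticElements_iff.1 hσ)
  refine ⟨sameActionSubgroup G (g * σ * g⁻¹), ⟨_, conj_mem_minimal hσ hg, rfl⟩, ?_⟩
  refine (rankOnePair_of_not_nilpotent hC hσ (conj_mem_minimal hσ hg) ?_).1
  rw [coe_conj_sub_one]
  exact hn

/-- rank one pairs are not nilpotent pairs -/
theorem not_nilpotent_of_rankOne (hC : Core G) (hO : HasOpp G) {σ τ : LinearMap.GeneralLinearGroup k M}
    (hσ : σ ∈ minimalQuadraticElements G) (hτ : τ ∈ minimalQuadraticElements G)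
    (h : IsRankOnePair (sameActionSubgroup G σ) (sameActionSubgroup G τ)) :
    ¬ IsNilpotent (((σ : M →ₗ[k] M) - 1) * ((τ : M →ₗ[k] M) - 1)) := by
  intro hn
  have hn' := unip_or_opp hC hσ hτ hn
  have hne : ⁅sameActionSubgroup G σ, sameActionSubgroup G τ⁆ ≠ ⊥ := rankOne_not_commute h
  obtain ⟨⟨h1, h2, h3, h4, h5, h6⟩, -⟩ := unipotent_conclusion hC hO ⟨σ, hσ, rfl⟩ ⟨τ, hτ, rfl⟩ hn' hne
  obtain ⟨a, ha, ha1⟩ := rankOne_exists_left h
  obtain ⟨b, hb, hb1⟩ := rankOne_exists_right h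
  refine Cfsg.Agent.H733.rankOne_conj_not_comm h ha ha1 hb hb1 hb hb1 ?_
  have h7 : a * b * a⁻¹ * b⁻¹ ∈ ⁅sameActionSubgroup G σ ⊔ sameActionSubgroup G τ,
      sameActionSubgroup G σ ⊔ sameActionSubgroup G τ⁆ := by
    have := Subgroup.commutator_mem_commutator (H₁ := sameActionSubgroup G σ ⊔ sameActionSubgroup G τ)
      (H₂ := sameActionSubgroup G σ ⊔ sameActionSubgroup G τ) (Subgroup.mem_sup_left ha) (Subgroup.mem_sup_right hb)
    rwa [commutatorElement_def] at this
  have h8 := commutator_eq_bot_iff_forall.1 h5 _ h7 b (Subgroup.mem_sup_right hb)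
  calc a * b * a⁻¹ * b = (a * b * a⁻¹ * b⁻¹ * b) * b := by group
    _ = (b * (a * b * a⁻¹ * b⁻¹)) * b := by rw [h8]
    _ = b * (a * b * a⁻¹) := by group

theorem sigma_special (hk2 : ringChar k ≠ 2) (hC : Core G) (hO : HasOpp G) {A B : Subgroup (LinearMap.GeneralLinearGroup k M)}
    (hA : A ∈ quadraticRootSubgroups G) (hB : B ∈ quadraticRootSubgroups G) (h : IsRankOnePair A B) :
    IsSpecialRankOnePair A B := by
  obtain ⟨σ, hσ, rfl⟩ := hA
  obtain ⟨τ, hτ, rfl⟩ := hB
  exact (opposite_case hk2 hC hσ hτ (not_nilpotent_of_rankOne hC hO hσ hτ h)).1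

/-- SL₂-subpairs -/
theorem sigma_psl2 (hC : Core G) (hO : HasOpp G) {A B : Subgroup (LinearMap.GeneralLinearGroup k M)}
    (hA : A ∈ quadraticRootSubgroups G) (hB : B ∈ quadraticRootSubgroups G) (h : IsRankOnePair A B) :
    ∃ A₀ B₀ : Subgroup (LinearMap.GeneralLinearGroup k M), A₀ ≤ A ∧ B₀ ≤ B ∧ IsPSL2PairOver k A₀ B₀ := by
  obtain ⟨σ, hσ, rfl⟩ := hA
  obtain ⟨τ, hτ, rfl⟩ := hB
  have hn := not_nilpotent_of_rankOne hC hO hσ hτ h
  have hσm := mem_minimalQuadraticElements_iff.1 hσ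
  have hτm := mem_minimalQuadraticElements_iff.1 hτ
  obtain ⟨t, ht, hts, hi⟩ := hC.inv hσm hτm hn
  refine ⟨lineGrp _ hi.ss, lineGrp t hi.tt, ?_, ?_, hi.isPSL2PairOver hσm.ne_zero⟩
  · rintro x ⟨c, hc⟩
    rw [mem_E_iff hσ, hc, add_sub_cancel_left]
    exact (clS G _ hi.ss).smul_mem c (self_mem_cl hσm.1)
  · rintro x ⟨c, hc⟩
    rw [mem_E_iff hτ, hc, add_sub_cancel_left, ← cl_congr hts]
    exact (clS G t hi.tt).smul_mem c (self_mem_cl ht.1)

theorem card_E (hk2 : ringChar k ≠ 2) (hk3 : Nat.card k ≠ 3) {A : Subgroup (LinearMap.GeneralLinearGroup k M)}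
    (hA : A ∈ quadraticRootSubgroups G) : 3 < ENat.card A := by
  obtain ⟨σ, hσ, rfl⟩ := hA
  have hσm := mem_minimalQuadraticElements_iff.1 hσ
  refine lt_of_lt_of_le (three_lt_card (k := k) hk2 hk3) ?_
  have hmem : ∀ c : k, oneAdd (c • ((σ : M →ₗ[k] M) - 1)) (smul_sq hσm.sq c) ∈ sameActionSubgroup G σ := by
    intro c
    rw [mem_E_iff hσ, coe_oneAdd, add_sub_cancel_left]
    exact (clS G _ hσm.sq).smul_mem c (self_mem_cl hσm.1)
  refine ENat.card_le_card_of_injective (f := fun c : k =>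
    (⟨oneAdd (c • ((σ : M →ₗ[k] M) - 1)) (smul_sq hσm.sq c), hmem c⟩ : ↥(sameActionSubgroup G σ))) ?_
  intro c d hcd
  have h1 := congrArg (fun x : ↥(sameActionSubgroup G σ) => (((x : LinearMap.GeneralLinearGroup k M)) : M →ₗ[k] M)) hcd
  simp only [coe_oneAdd] at h1
  have h2 : (c - d) • ((σ : M →ₗ[k] M) - 1) = 0 := by rw [sub_smul, sub_eq_zero]; exact add_left_cancel h1
  rcases smul_eq_zero.1 h2 with h3 | h3
  · exact sub_eq_zero.1 h3
  · exact absurd h3 hσm.ne_zero

end Cfsg.Agent.H742
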