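/-
Quadratic pairs: the groups generated by the components of Σ(G) are quasisimple; finitely many components (helper742).
-/
import Cfsg.Agent.H742.SigmaRoot
import Cfsg.Agent.H734.Quasi

set_option autoImplicit false
open Cfsg

namespace Cfsg.Agent.H742

open Cfsg.Agent.H740 Cfsg.Agent.H731 Cfsg.Agent.H733 Cfsg.Agent.H734

variable {k : Type*} [Field k] {M : Type*} [AddCommGroup M] [Module k M]
variable {G : Subgroup (LinearMap.GeneralLinearGroup k M)}

/-! ### Unipotence of conjugates and of mutually normalizing families -/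

theorem prod_sub_one_conj (g : LinearMap.GeneralLinearGroup k M) (l : List (LinearMap.GeneralLinearGroup k M)) :
    (l.map (fun x : LinearMap.GeneralLinearGroup k M => (x : M →ₗ[k] M) - 1)).prod =
      (g : M →ₗ[k] M) * ((l.map (fun x => g⁻¹ * x * g)).map
        (fun x : LinearMap.GeneralLinearGroup k M => (x : M →ₗ[k] M) - 1)).prod *
        ((g⁻¹ : LinearMap.GeneralLinearGroup k M) : M →ₗ[k] M) := by
  induction l with
  | nil =>
    simp only [List.map_nil, List.prod_nil, mul_one]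
    rw [Units.mul_inv]
  | cons x l ih =>
    simp only [List.map_cons, List.prod_cons]
    rw [ih]
    have h1 : ((g⁻¹ * x * g : LinearMap.GeneralLinearGroup k M) : M →ₗ[k] M) - 1 =
        ((g⁻¹ : LinearMap.GeneralLinearGroup k M) : M →ₗ[k] M) * ((x : M →ₗ[k] M) - 1) * (g : M →ₗ[k] M) := by
      rw [mul_sub, sub_mul, mul_one, Units.inv_mul, Units.val_mul, Units.val_mul]
    rw [h1]
    simp only [← mul_assoc]
    rw [Units.mul_inv, one_mul]

theorem isUnipotentOn_conj {R : Subgroup (LinearMap.GeneralLinearGroup k M)} (h : IsUnipotentOn R)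
    (g : LinearMap.GeneralLinearGroup k M) : IsUnipotentOn (conjBy R g) := by
  obtain ⟨n, hn⟩ := isUnipotentOn_def.1 h
  rw [isUnipotentOn_def]
  refine ⟨n, fun l hl hlen => ?_⟩
  rw [prod_sub_one_conj g, hn (l.map (fun x => g⁻¹ * x * g)), mul_zero, zero_mul]
  · intro x hx
    obtain ⟨y, hy, rfl⟩ := List.mem_map.1 hx
    have := hl y hy
    rwa [mem_conjBy] at this
  · rw [List.length_map, hlen]

theorem conj_mem_of_conjBy {X : Subgroup (LinearMap.GeneralLinearGroup k M)} {g x : LinearMap.GeneralLinearGroup k M}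
    (h : conjBy X g = X) (hx : x ∈ X) : g * x * g⁻¹ ∈ X := by
  have := conj_mem_conjBy hx g
  rwa [h] at this

variable [FiniteDimensional k M]

theorem isUnipotentOn_iSup_normal {W : Set (Subgroup (LinearMap.GeneralLinearGroup k M))}
    (hu : ∀ X ∈ W, IsUnipotentOn X) (hn : ∀ X ∈ W, ∀ Y ∈ W, ∀ y ∈ Y, conjBy X y = X) :
    IsUnipotentOn (⨆ X ∈ W, X) := by
  refine isUnipotentOn_iSup (G := ⨆ X ∈ W, X) (fun X hX => le_gen hX) ?_ ?_
  · intro A hA B hB
    refine isUnipotentOn_sup (hu A hA) (hu B hB) ?_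
    intro b hb a ha
    exact conj_mem_of_conjBy (hn A hA B hB b hb) ha
  · intro A hA g hg
    have h1 : (⨆ X ∈ W, X) ≤ Subgroup.normalizer (A : Set (LinearMap.GeneralLinearGroup k M)) :=
      iSup₂_le fun B hB => le_normalizer_of_conjBy fun b hb => hn A hA B hB b hb
    rw [mem_normalizer_iff_conjBy.1 (h1 hg)]
    exact hA

/-- a unipotent subgroup normalized by a normal subgroup `G₀` of `G` containing it is trivial -/
theorem eq_bot_of_normalized (hNU : NoUnip G) {G₀ R : Subgroup (LinearMap.GeneralLinearGroup k M)} (hG₀ : G₀ ≤ G)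
    (hG₀n : ∀ g ∈ G, conjBy G₀ g = G₀) (hR : R ≤ G₀) (hRn : ∀ x ∈ G₀, conjBy R x = R) (hu : IsUnipotentOn R) :
    R = ⊥ := by
  set W : Set (Subgroup (LinearMap.GeneralLinearGroup k M)) := {X | ∃ g ∈ G, X = conjBy R g} with hW
  have hle : ∀ X ∈ W, X ≤ G₀ := by
    rintro _ ⟨g, hg, rfl⟩
    rw [← hG₀n g hg]
    exact conjBy_le_conjBy.2 hR
  have h1 : IsUnipotentOn (⨆ X ∈ W, X) := by
    refine isUnipotentOn_iSup_normal ?_ ?_
    · rintro _ ⟨g, hg, rfl⟩
      exact isUnipotentOn_conj hu g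
    · rintro _ ⟨g, hg, rfl⟩ Y hY y hy
      have hy' := hle Y hY hy
      have h2 : g⁻¹ * y * g ∈ G₀ := by
        rw [← hG₀n g hg, mem_conjBy] at hy'
        exact hy'
      have h3 := hRn _ h2
      rw [conjBy_conjBy]
      have h4 : y * g = g * (g⁻¹ * y * g) := by group
      rw [h4, ← conjBy_conjBy, h3]
  have h2 : ∀ g ∈ G, conjBy (⨆ X ∈ W, X) g = ⨆ X ∈ W, X := by
    have hle2 : ∀ g ∈ G, conjBy (⨆ A ∈ W, A) g ≤ ⨆ A ∈ W, A := by
      intro g hg
      rw [conjBy_iSup]
      apply iSup_le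
      intro A
      rw [conjBy_iSup]
      apply iSup_le
      rintro ⟨h, hh, rfl⟩
      exact le_iSup₂_of_le (conjBy (conjBy R h) g) ⟨g * h, G.mul_mem hg hh, conjBy_conjBy _ _ _⟩ le_rfl
    intro g hg
    apply le_antisymm (hle2 g hg)
    have h1 := hle2 g⁻¹ (G.inv_mem hg)
    have h2 := (conjBy_le_conjBy (g := g)).2 h1
    rwa [conjBy_conjBy, mul_inv_cancel, conjBy_one] at h2
  have h3 := hNU _ ((iSup₂_le fun X hX => hle X hX).trans hG₀) h2 h1
  rw [eq_bot_iff, ← h3]
  exact le_iSup₂_of_le R ⟨1, G.one_mem, (conjBy_one _).symm⟩ le_rfl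

theorem isUnipotentOn_E (hC : Core G) {A : Subgroup (LinearMap.GeneralLinearGroup k M)}
    (hA : A ∈ quadraticRootSubgroups G) : IsUnipotentOn A := by
  obtain ⟨σ, hσ, rfl⟩ := hA
  have h1 := unipotent_case hC hσ hσ (by
    rw [sq_of_mem_minimal hσ]; exact IsNilpotent.zero)
  rwa [sup_idem] at h1

/-! ### Quasisimplicity -/

theorem ENat_card_subgroupOf {A K : Subgroup (LinearMap.GeneralLinearGroup k M)} (hA : A ≤ K) :
    ENat.card ↥(A.subgroupOf K) = ENat.card ↥A :=
  ENat.card_congr (Subgroup.subgroupOfEquivOfLe hA).toEquiv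

theorem commutator_normal_conj {H : Type*} [Group H] {A N : Subgroup H} (hN : N.Normal) (g : H) :
    conjBy ⁅A, N⁆ g = ⁅conjBy A g, N⁆ := by
  rw [conjBy_commutator, conjBy_normal N g]

/-- `⁅A, N⁆` is contained in the group generated by the conjugates of `A` under `N`. -/
theorem commutator_le_conj {H : Type*} [Group H] {A N : Subgroup H} :
    ⁅A, N⁆ ≤ ⨆ X ∈ {X | ∃ n ∈ N, X = conjBy A n}, X := by
  rw [Subgroup.commutator_le]
  intro a ha n hn
  rw [commutatorElement_def]
  have h1 : a ∈ ⨆ X ∈ {X | ∃ n ∈ N, X = conjBy A n}, X :=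
    (le_gen (T := {X | ∃ n ∈ N, X = conjBy A n}) ⟨1, N.one_mem, (conjBy_one A).symm⟩) ha
  have h2 : n * a⁻¹ * n⁻¹ ∈ ⨆ X ∈ {X | ∃ n ∈ N, X = conjBy A n}, X :=
    (le_gen (T := {X | ∃ n ∈ N, X = conjBy A n}) ⟨n, hn, rfl⟩) (conj_mem_conjBy (A.inv_mem ha) n)
  have h3 : a * n * a⁻¹ * n⁻¹ = a * (n * a⁻¹ * n⁻¹) := by group
  rw [h3]
  exact Subgroup.mul_mem _ h1 h2

theorem quasisimple_component (hk2 : ringChar k ≠ 2) (hk3 : Nat.card k ≠ 3) (hC : Core G) (hNU : NoUnip G)
    {A₀ : Subgroup (LinearMap.GeneralLinearGroup k M)} (hA₀ : A₀ ∈ quadraticRootSubgroups G) :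
    IsQuasisimple ↥(⨆ B ∈ componentOf (FAdj (quadraticRootSubgroups G)) (quadraticRootSubgroups G) A₀, B) := by
  have hO := hasOpp_of_noUnip hC hNU
  have hfam := sigma_fam hC hO
  have hpart := sigma_partner hC hO
  set T := quadraticRootSubgroups G with hT
  set D := componentOf (FAdj T) T A₀ with hD
  have hDT : D ⊆ T := componentOf_subset
  have hDfam : Fam D := hfam.component hpart
  have hDpart : ∀ B ∈ D, ∃ C ∈ D, IsRankOnePair B C := component_partner hpart
  have hS := hDfam.rootSet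
  have hF := fAdj_partner_famIn hDpart
  set H := ⨆ B ∈ D, B with hH
  have hcon : IsConnectedFamily (FAdj (famIn D)) (famIn D) := by
    rintro _ ⟨A, hA, rfl⟩ _ ⟨B, hB, rfl⟩
    exact reach_subgroupOf (component_connected A hA B hB)
  have h3 : ∀ A ∈ famIn D, 3 < ENat.card A := by
    rintro _ ⟨A, hA, rfl⟩
    rw [ENat_card_subgroupOf (le_gen hA)]
    exact card_E hk2 hk3 (hDT hA)
  have h4 : ∀ A ∈ famIn D, ∀ B ∈ rankOnePartners (famIn D) A, IsSpecialRankOnePair A B := by
    rintro _ ⟨A, hA, rfl⟩ _ ⟨⟨B, hB, rfl⟩, h⟩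
    exact (IsSpecialRankOnePair_subgroupOf_iff (le_gen hA) (le_gen hB)).2
      (sigma_special hk2 hC hO (hDT hA) (hDT hB)
        ((IsRankOnePair_subgroupOf_iff (le_gen hA) (le_gen hB)).1 h))
  have hperf : commutator ↥H = ⊤ := by
    refine le_of_forall_member hS ?_
    intro A hA
    obtain ⟨B, hB, h⟩ := hF A hA
    rw [← H732.commDiag_eq (h4 A hA B ⟨hB, h⟩) (hS.commutative A hA) (h3 A hA), commutator_def]
    exact Subgroup.commutator_mono le_top le_top
  refine isQuasisimple_of_normal hperf ?_ ?_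
  · intro htop
    obtain ⟨B, hB, h⟩ := hF (A₀.subgroupOf H) ⟨A₀, self_mem_componentOf hA₀, rfl⟩
    apply rankOne_not_commute h
    rw [commutator_eq_bot_iff_forall]
    intro a _ b _
    have : b ∈ Subgroup.center ↥H := by rw [htop]; exact Subgroup.mem_top b
    exact Subgroup.mem_center_iff.1 this a
  intro N hN
  by_cases hcase : ∃ A ∈ famIn D, N ⊓ A ≠ ⊥
  · right
    obtain ⟨A, hA, hNA⟩ := hcase
    have h5 := sup_eq_top_of_inf_ne_bot hS hcon hA hNA
    have h6 := commutator_le_of_sup_eq_top (hS.commutative A hA) h5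
    rw [hperf] at h6
    exact top_le_iff.1 h6
  left
  push Not at hcase
  have hcen : RankOneCentral (famIn D) N := rankOneCentral_of_card hS h3 h4 hcase
  -- conjugates under `N` commute
  have hconj : ∀ A ∈ famIn D, ∀ n ∈ N, ⁅A, conjBy A n⁆ = ⊥ := fun A hA n hn =>
    comm_conj_of_comm hS hF hcase hcen hA hn hA (member_commutator_self hS hA)
  -- members map to members of `D`
  have hmap : ∀ A ∈ famIn D, A.map H.subtype ∈ D := by
    rintro _ ⟨A, hA, rfl⟩
    simp only
    rw [map_subtype_subgroupOf (le_gen hA)]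
    exact hA
  -- `P A`
  have hP : ∀ A ∈ famIn D, IsUnipotentOn ((⁅A, N⁆).map H.subtype) := by
    intro A hA
    have h5 : (⁅A, N⁆).map H.subtype ≤ ⨆ X ∈ {X | ∃ n ∈ N, X = (conjBy A n).map H.subtype}, X := by
      rw [Subgroup.map_le_iff_le_comap]
      refine commutator_le_conj.trans ?_
      refine iSup₂_le ?_
      rintro _ ⟨n, hn, rfl⟩
      rw [← Subgroup.map_le_iff_le_comap]
      exact le_gen (T := {X | ∃ n ∈ N, X = (conjBy A n).map H.subtype}) ⟨n, hn, rfl⟩
    refine isUnipotentOn_mono h5 (isUnipotentOn_iSup_normal ?_ ?_)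
    · rintro _ ⟨n, hn, rfl⟩
      exact isUnipotentOn_E hC (hDT (hmap _ (hS.conj_mem A hA n)))
    · rintro _ ⟨n, hn, rfl⟩ _ ⟨m, hm, rfl⟩ y hy
      apply conjBy_of_commute
      intro x hx
      obtain ⟨y, hy, rfl⟩ := hy
      obtain ⟨x, hx, rfl⟩ := hx
      rw [← map_mul, ← map_mul]
      congr 1
      have h6 := hconj A hA (n⁻¹ * m) (N.mul_mem (N.inv_mem hn) hm)
      rw [← commutator_conjBy_eq_bot_iff (g := n), conjBy_conjBy, mul_inv_cancel_left] at h6
      exact (commutator_eq_bot_iff_forall.1 h6 x hx y hy).symm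
  -- the unipotent normal subgroup `R` of `H`
  set W : Set (Subgroup (LinearMap.GeneralLinearGroup k M)) := {X | ∃ A ∈ famIn D, X = (⁅A, N⁆).map H.subtype} with hW
  have hNle : ∀ A : Subgroup ↥H, ⁅A, N⁆ ≤ N := fun A => Subgroup.commutator_le_right A N
  have hmapconj : ∀ (X : Subgroup ↥H) (g : ↥H), conjBy (X.map H.subtype) (g : LinearMap.GeneralLinearGroup k M) =
      (conjBy X g).map H.subtype := fun X g => (map_conjBy H.subtype X g).symm
  have hRu : IsUnipotentOn (⨆ X ∈ W, X) := by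
    refine isUnipotentOn_iSup_normal ?_ ?_
    · rintro _ ⟨A, hA, rfl⟩
      exact hP A hA
    · rintro _ ⟨A, hA, rfl⟩ _ ⟨B, hB, rfl⟩ _ ⟨y, hy, rfl⟩
      have h5 : conjBy ⁅A, N⁆ y = ⁅A, N⁆ :=
        mem_normalizer_iff_conjBy.1 (Subgroup.normalizer_commutator_ge_right A N (hNle B hy))
      have h6 := hmapconj ⁅A, N⁆ y
      rw [h5] at h6
      exact h6
  have hRH : ∀ X ∈ W, X ≤ H := by
    rintro _ ⟨A, hA, rfl⟩
    exact Subgroup.map_subtype_le _
  have hRn : ∀ x ∈ H, conjBy (⨆ X ∈ W, X) x = ⨆ X ∈ W, X := by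
    have hle2 : ∀ g ∈ H, conjBy (⨆ A ∈ W, A) g ≤ ⨆ A ∈ W, A := by
      intro g hg
      rw [conjBy_iSup]
      apply iSup_le
      intro X
      rw [conjBy_iSup]
      apply iSup_le
      rintro ⟨A, hA, rfl⟩
      have h5 := hmapconj ⁅A, N⁆ ⟨g, hg⟩
      simp only at h5
      rw [h5, commutator_normal_conj hN]
      exact le_gen (T := W) ⟨_, hS.conj_mem A hA _, rfl⟩
    intro g hg
    apply le_antisymm (hle2 g hg)
    have h1 := hle2 g⁻¹ (H.inv_mem hg)
    have h2 := (conjBy_le_conjBy (g := g)).2 h1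
    rwa [conjBy_conjBy, mul_inv_cancel, conjBy_one] at h2
  have hRn' : ∀ x ∈ ⨆ B ∈ T, B, conjBy (⨆ X ∈ W, X) x = ⨆ X ∈ W, X := by
    have h5 : (⨆ B ∈ T, B) ≤ Subgroup.normalizer ((⨆ X ∈ W, X : Subgroup (LinearMap.GeneralLinearGroup k M)) :
        Set (LinearMap.GeneralLinearGroup k M)) := by
      refine iSup₂_le fun B hB => ?_
      rcases hfam.reach_or_commute hpart hA₀ hB with h6 | h6
      · exact (le_gen (T := D) ⟨hB, h6⟩).trans (le_normalizer_of_conjBy hRn)
      · -- all members of `D` commute with `B` or `B ∈ D`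
        by_cases hBD : B ∈ D
        · exact (le_gen (T := D) hBD).trans (le_normalizer_of_conjBy hRn)
        · refine le_normalizer_of_conjBy fun b hb => ?_
          apply conjBy_of_commute
          have h7 : H ≤ Subgroup.centralizer ({b} : Set (LinearMap.GeneralLinearGroup k M)) := by
            refine iSup₂_le fun C hCD => ?_
            intro c hc
            rw [Subgroup.mem_centralizer_iff]
            rintro _ rfl
            have h8 : ⁅B, C⁆ = ⊥ := by
              rcases hfam.reach_or_commute hpart hB (hDT hCD) with h9 | h9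
              · exfalso
                exact hBD ⟨hB, hCD.2.trans (H733.reach_symm h9)⟩
              · exact h9
            exact commutator_eq_bot_iff_forall.1 h8 _ hb _ hc
          intro x hx
          have h8 : x ∈ H := (iSup₂_le hRH) hx
          exact (Subgroup.mem_centralizer_iff.1 (h7 h8) b rfl)
    intro x hx
    exact mem_normalizer_iff_conjBy.1 (h5 hx)
  have hHT : H ≤ ⨆ B ∈ T, B := gen_componentOf_le
  have hbot := eq_bot_of_normalized hNU (G₀ := ⨆ B ∈ T, B) (R := ⨆ X ∈ W, X) gen_sigma_le ?_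
    ((iSup₂_le hRH).trans hHT) hRn' hRu
  · intro n hn
    refine mem_center_of_forall hS fun A hA a ha => ?_
    have h5 : (⁅A, N⁆).map H.subtype = ⊥ := by
      rw [eq_bot_iff, ← hbot]
      exact le_gen (T := W) ⟨A, hA, rfl⟩
    rw [Subgroup.map_eq_bot_iff_of_injective _ H.subtype_injective] at h5
    exact (commutator_eq_bot_iff_forall.1 h5 a ha n hn).symm
  · -- `G₀` is normal in `G`
    have hle2 : ∀ g ∈ G, conjBy (⨆ A ∈ T, A) g ≤ ⨆ A ∈ T, A := by
      intro g hg
      rw [conjBy_iSup]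
      apply iSup_le
      intro X
      rw [conjBy_iSup]
      apply iSup_le
      intro hX
      exact le_gen (conjBy_mem_quadraticRootSubgroups hX hg)
    intro g hg
    apply le_antisymm (hle2 g hg)
    have h1 := hle2 g⁻¹ (G.inv_mem hg)
    have h2 := (conjBy_le_conjBy (g := g)).2 h1
    rwa [conjBy_conjBy, mul_inv_cancel, conjBy_one] at h2


/-! ### Finitely many components -/

theorem finite_components (hC : Core G) (hO : HasOpp G) :
    Set.Finite {D : Set (Subgroup (LinearMap.GeneralLinearGroup k M)) | ∃ A ∈ quadraticRootSubgroups G,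
      D = componentOf (FAdj (quadraticRootSubgroups G)) (quadraticRootSubgroups G) A} := by
  have hfam := sigma_fam hC hO
  have hpart := sigma_partner hC hO
  set T := quadraticRootSubgroups G with hT
  set I := {D : Set (Subgroup (LinearMap.GeneralLinearGroup k M)) | ∃ A ∈ T, D = componentOf (FAdj T) T A} with hI
  have hex : ∀ D : I, ∃ A ∈ D.1, ∃ B ∈ D.1, ∃ a ∈ A, ∃ b ∈ B, a * b ≠ b * a := by
    rintro ⟨_, A, hA, rfl⟩
    obtain ⟨B, hB, h⟩ := component_partner hpart A (self_mem_componentOf hA)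
    have h1 := rankOne_not_commute h
    rw [commutator_eq_bot_iff_forall] at h1
    push Not at h1
    obtain ⟨a, ha, b, hb, hab⟩ := h1
    exact ⟨A, self_mem_componentOf hA, B, hB, a, ha, b, hb, hab⟩
  choose A hA B hB a ha b hb hab using hex
  have hcomm : ∀ i j : I, i ≠ j → a i * b j = b j * a i := by
    intro i j hij
    obtain ⟨A', hA', hi⟩ := i.2
    obtain ⟨B', hB', hj⟩ := j.2
    have h1 : componentOf (FAdj T) T A' ≠ componentOf (FAdj T) T B' := by
      rw [← hi, ← hj]
      exact fun h => hij (Subtype.ext h)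
    have h2 := hfam.commute_of_not_reach hpart h1 (hi ▸ hA i) (hj ▸ hB j)
    exact commutator_eq_bot_iff_forall.1 h2 _ (ha i) _ (hb j)
  have hlin : LinearIndependent k (fun i : I => ((a i : LinearMap.GeneralLinearGroup k M) : M →ₗ[k] M)) := by
    rw [linearIndependent_iff']
    intro s g hg i hi
    have h1 : (∑ j ∈ s, g j • ((a j : LinearMap.GeneralLinearGroup k M) : M →ₗ[k] M)) * (b i : M →ₗ[k] M) -
        (b i : M →ₗ[k] M) * (∑ j ∈ s, g j • ((a j : LinearMap.GeneralLinearGroup k M) : M →ₗ[k] M)) = 0 := by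
      rw [hg, zero_mul, mul_zero, sub_zero]
    rw [Finset.sum_mul, Finset.mul_sum, ← Finset.sum_sub_distrib] at h1
    rw [Finset.sum_eq_single i] at h1
    · have h2 : g i • ((a i : M →ₗ[k] M) * (b i : M →ₗ[k] M) - (b i : M →ₗ[k] M) * (a i : M →ₗ[k] M)) = 0 := by
        rw [smul_sub, ← smul_mul_assoc, ← mul_smul_comm]
        exact h1
      rcases smul_eq_zero.1 h2 with h3 | h3
      · exact h3
      · exfalso
        apply hab i
        apply Units.ext
        rw [Units.val_mul, Units.val_mul]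
        exact sub_eq_zero.1 h3
    · intro j _ hji
      have h2 := congrArg Units.val (hcomm j i hji)
      rw [Units.val_mul, Units.val_mul] at h2
      rw [smul_mul_assoc, mul_smul_comm, h2, sub_self]
    · intro h2
      exact absurd hi h2
  have : Finite I := hlin.finite
  exact Set.toFinite I

end Cfsg.Agent.H742
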