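import Cfsg.Agent.H888.C6.ClDeg
import Cfsg.Agent.H878.Nums
import Cfsg.Agent.Lib.Zsigmondy
import Cfsg.Agent.S0243
import Cfsg.Agent.S0245
import Cfsg.Agent.S0246
import Cfsg.Agent.S0280
import Cfsg.Agent.S0292
import Cfsg.Agent.S0293
import Cfsg.Agent.S0294

/-!
# Classical groups of large natural degree whose order divides that of `PΩ⁺_2m(p)` or `PSp_2m(p)` (task 1734)

* `plus_card`: a classical group in characteristic `p` of natural degree at least `2m` whose order divides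
  `|PΩ⁺_2m(p)|` has the same order;
* `sp_cases`: if its order divides `|PSp_2m(p)|` then it has the same order or it is `PΩ⁺_2m(p)` or `PΩ⁻_2m(p)`.
-/

set_option autoImplicit false

universe u v

namespace Cfsg.Agent.H742.ClOrd

open Cfsg Finset

/-- A prime `r` with `p` of order `e` modulo `r`. -/
structure PPD (p e r : ℕ) : Prop where
  prime : r.Prime
  iff : ∀ j, r ∣ p ^ j - 1 ↔ e ∣ j
  lt : e < r
  ndvd : ¬ r ∣ p

theorem exists_ppd {p e : ℕ} (hp : p.Prime) (hp2 : p ≠ 2) (he : 3 ≤ e) : ∃ r, PPD p e r := by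
  obtain ⟨r, h1, h2, h3, h4⟩ := Cfsg.Agent.Lib.Zsigmondy.exists_primitive (a := p) (n := e) hp.two_le (by omega)
    (fun h => by omega) (fun h => hp2 h.1)
  refine ⟨r, h1, h2, ?_, h4⟩
  have h5 := Nat.le_of_dvd (by have := h1.two_le; omega) h3
  have := h1.two_le
  omega

variable {p e r : ℕ}

theorem PPD.pow_iff (h : PPD p e r) (f j : ℕ) : r ∣ (p ^ f) ^ j - 1 ↔ e ∣ f * j := by
  rw [← pow_mul]
  exact h.iff _

theorem PPD.not_dvd_of_lt (h : PPD p e r) {n : ℕ} (hn : 0 < n) (hne : n < e) : ¬ r ∣ n := fun h' => by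
  have h1 := Nat.le_of_dvd hn h'
  have := h.lt
  omega

/-- `r` divides `q ^ j + 1` when `e = 2 g j`, `q = p ^ g`. -/
theorem PPD.dvd_add_one {g j : ℕ} (h : PPD p (2 * (g * j)) r) (hgj : 0 < g * j) : r ∣ (p ^ g) ^ j + 1 := by
  have h1 : r ∣ p ^ (2 * (g * j)) - 1 := (h.iff _).2 dvd_rfl
  have h2 : p ^ (2 * (g * j)) - 1 = ((p ^ g) ^ j + 1) * ((p ^ g) ^ j - 1) := by
    rw [← pow_mul, mul_comm 2, pow_mul, ← Nat.sq_sub_sq, one_pow]
  rw [h2] at h1
  rcases (Nat.Prime.dvd_mul h.prime).1 h1 with h3 | h3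
  · exact h3
  · rw [h.pow_iff] at h3
    have := Nat.le_of_dvd hgj h3
    omega

theorem PPD.dvd_of_mul (h : PPD p e r) {a N M : ℕ} (ha : ¬ r ∣ a) (hN : a * N = M) (hM : r ∣ M) : r ∣ N := by
  rw [← hN] at hM
  exact ((Nat.Prime.dvd_mul h.prime).1 hM).resolve_left ha

theorem PPD.not_dvd_four (h : PPD p e r) (he : 4 ≤ e) (N : ℕ) : ¬ r ∣ Nat.gcd 4 N := fun h' =>
  h.not_dvd_of_lt (by norm_num : 0 < 3 + 1) (by
    have := h.lt
    rcases Nat.lt_or_ge 4 e with h4 | h4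
    · exact h4
    · exfalso
      have h5 : r ∣ 4 := h'.trans (Nat.gcd_dvd_left _ _)
      have h6 := Nat.le_of_dvd (by norm_num) h5
      omega) (h'.trans (Nat.gcd_dvd_left _ _))

theorem PPD.not_dvd_two (h : PPD p e r) (he : 2 ≤ e) (N : ℕ) : ¬ r ∣ Nat.gcd 2 N := fun h' => by
  have h5 : r ∣ 2 := h'.trans (Nat.gcd_dvd_left _ _)
  have h6 := Nat.le_of_dvd (by norm_num) h5
  have := h.lt
  omega

/-! ### Exponents of `PΩ⁺_2m(p)` and `PSp_2m(p)` -/

theorem card_psp (F : Type u) [Field F] [Fintype F] (m : ℕ) (hm : 1 ≤ m) :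
    Nat.gcd 2 (Fintype.card F - 1) * Nat.card (PSp m F)
      = (Fintype.card F) ^ (m ^ 2) * ∏ i ∈ Finset.range m, ((Fintype.card F) ^ (2 * (i + 1)) - 1) := by
  rw [← Cfsg.Agent.S0245.result (F := F) rfl m, ← Cfsg.Agent.S0246.result (F := F) rfl m hm]
  exact Subgroup.card_mul_index (Subgroup.center (Matrix.symplecticGroup (Fin m) F))

theorem plus_exp (h : PPD p e r) {F : Type u} [Field F] [Fintype F] (hF : Fintype.card F = p) {m : ℕ} (hm : 4 ≤ m)
    (hd : r ∣ Nat.card (Cfsg.POmega F (Cfsg.quadFormPlus m F))) : e ≤ 2 * m - 2 := by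
  have h1 := Cfsg.Agent.S0293.result hF m hm
  have h2 : r ∣ p ^ (m * (m - 1)) * (p ^ m - 1) * ∏ i ∈ Finset.range (m - 1), (p ^ (2 * (i + 1)) - 1) := by
    rw [← h1]; exact hd.mul_left _
  rcases (Nat.Prime.dvd_mul h.prime).1 h2 with h3 | h3
  · rcases (Nat.Prime.dvd_mul h.prime).1 h3 with h4 | h4
    · exact absurd (h.prime.dvd_of_dvd_pow h4) h.ndvd
    · have := Nat.le_of_dvd (by omega) ((h.iff _).1 h4)
      omega
  · obtain ⟨i, hi, h4⟩ := (h.prime.prime.dvd_finsetProd_iff _).1 h3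
    have h5 := Nat.le_of_dvd (by omega) ((h.iff _).1 h4)
    have := Finset.mem_range.1 hi
    omega

theorem sp_exp (h : PPD p e r) {F : Type u} [Field F] [Fintype F] (hF : Fintype.card F = p) {m : ℕ} (hm : 1 ≤ m)
    (hd : r ∣ Nat.card (PSp m F)) : e ≤ 2 * m ∧ (Odd e → e ≤ m) := by
  have h1 := card_psp F m hm
  rw [hF] at h1
  have h2 : r ∣ p ^ (m ^ 2) * ∏ i ∈ Finset.range m, (p ^ (2 * (i + 1)) - 1) := by
    rw [← h1]; exact hd.mul_left _
  rcases (Nat.Prime.dvd_mul h.prime).1 h2 with h3 | h3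
  · exact absurd (h.prime.dvd_of_dvd_pow h3) h.ndvd
  · obtain ⟨i, hi, h4⟩ := (h.prime.prime.dvd_finsetProd_iff _).1 h3
    have h5 := (h.iff _).1 h4
    have h6 := Nat.le_of_dvd (by omega) h5
    have h7 := Finset.mem_range.1 hi
    refine ⟨by omega, fun ho => ?_⟩
    have h8 : e ∣ i + 1 := (Nat.Coprime.dvd_mul_left (Nat.coprime_two_right.2 ho)).1 h5
    have := Nat.le_of_dvd (by omega) h8
    omega

/-! ### Primes dividing the orders of the classical groups -/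

variable {K : Type v} [Field K] [Fintype K]

theorem dvd_psl {f d j : ℕ} (hK : Fintype.card K = p ^ f) (hd : 2 ≤ d) (hj : 2 ≤ j) (hjd : j ≤ d) (hf : 1 ≤ f)
    (h : PPD p (f * j) r) : r ∣ Nat.card (Matrix.ProjectiveSpecialLinearGroup (Fin d) K) := by
  have h1 := Cfsg.Agent.S0243.result hK d hd
  have hq : ¬ r ∣ p ^ f - 1 := by
    rw [h.iff]
    intro h2
    have h3 := Nat.le_of_dvd (by omega) h2
    have h4 : f * 2 ≤ f * j := Nat.mul_le_mul_left f hj
    omega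
  have h2 : r ∣ (p ^ f - 1) * Nat.card (Matrix.ProjectiveSpecialLinearGroup (Fin d) K) := by
    refine h.dvd_of_mul (fun h' => hq (h'.trans (Nat.gcd_dvd_right d _))) h1 ?_
    have h3 : r ∣ (p ^ f) ^ d - (p ^ f) ^ ((⟨d - j, by omega⟩ : Fin d) : ℕ) := by
      have h4 : (p ^ f) ^ d - (p ^ f) ^ (d - j) = (p ^ f) ^ (d - j) * ((p ^ f) ^ j - 1) := by
        rw [Nat.mul_sub, mul_one, ← pow_add]
        congr 2
        omega
      show r ∣ (p ^ f) ^ d - (p ^ f) ^ (d - j)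
      rw [h4]
      exact ((h.pow_iff _ _).2 dvd_rfl).mul_left _
    exact h3.trans (Finset.dvd_prod_of_mem (fun i : Fin d => (p ^ f) ^ d - (p ^ f) ^ (i : ℕ)) (Finset.mem_univ _))
  exact ((Nat.Prime.dvd_mul h.prime).1 h2).resolve_left hq

theorem dvd_psu {g d j : ℕ} (hK : Fintype.card K = (p ^ g) ^ 2) (hd : 2 ≤ d) (hj : 2 ≤ j) (hjd : j ≤ d)
    (hg : 1 ≤ g) (hjo : Odd j) (h : PPD p (2 * (g * j)) r) : r ∣ Nat.card (Cfsg.PSU d K (p ^ g)) := by
  have h1 := Cfsg.Agent.S0280.result hK d hd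
  have hgj : g * 2 ≤ g * j := Nat.mul_le_mul_left g hj
  have hq : ¬ r ∣ p ^ g + 1 := by
    intro h2
    have h3 : r ∣ (p ^ g) ^ 2 - 1 := by
      have h4 : (p ^ g) ^ 2 - 1 = (p ^ g + 1) * (p ^ g - 1) := by rw [← Nat.sq_sub_sq, one_pow]
      rw [h4]
      exact h2.mul_right _
    rw [h.pow_iff] at h3
    have h5 := Nat.le_of_dvd (by omega) h3
    omega
  have h2 : r ∣ (p ^ g + 1) * Nat.card (Cfsg.PSU d K (p ^ g)) := by
    refine h.dvd_of_mul (fun h' => hq (h'.trans (Nat.gcd_dvd_right d _))) h1 ?_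
    refine Dvd.dvd.mul_left ?_ _
    obtain ⟨k, rfl⟩ : ∃ k, j = k + 1 := ⟨j - 1, by omega⟩
    have hke : Even k := by
      rcases hjo with ⟨c, hc⟩
      exact ⟨c, by omega⟩
    refine Dvd.dvd.trans ?_ (Finset.dvd_prod_of_mem _ (Finset.mem_range.2 (show k < d by omega)))
    rw [if_pos hke]
    exact h.dvd_add_one (by omega)
  exact ((Nat.Prime.dvd_mul h.prime).1 h2).resolve_left hq

theorem dvd_psp {f k : ℕ} (hK : Fintype.card K = p ^ f) (hk : 1 ≤ k) (hf : 1 ≤ f)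
    (h : PPD p (2 * k * f) r) : r ∣ Nat.card (PSp k K) := by
  have h1 := card_psp K k hk
  have hkf : 1 ≤ k * f := Nat.one_le_iff_ne_zero.2 (mul_ne_zero (by omega) (by omega))
  refine h.dvd_of_mul (h.not_dvd_two (by nlinarith) _) h1 ?_
  refine Dvd.dvd.mul_left ?_ _
  refine Dvd.dvd.trans ?_ (Finset.dvd_prod_of_mem _ (Finset.mem_range.2 (show k - 1 < k by omega)))
  rw [hK, h.pow_iff, Nat.sub_add_cancel hk, mul_comm f]

theorem dvd_odd {f k : ℕ} (hK : Fintype.card K = p ^ f) (ho : Odd (p ^ f)) (hk : 3 ≤ k) (hf : 1 ≤ f)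
    (h : PPD p (2 * k * f) r) : r ∣ Nat.card (Cfsg.POmega K (Cfsg.quadFormOdd k K)) := by
  have h1 := Cfsg.Agent.S0292.result hK ho k hk
  refine h.dvd_of_mul (a := 2) (fun h' => ?_) h1 ?_
  · have h2 := Nat.le_of_dvd (by norm_num) h'
    have h3 := h.lt
    nlinarith
  refine Dvd.dvd.mul_left ?_ _
  refine Dvd.dvd.trans ?_ (Finset.dvd_prod_of_mem _ (Finset.mem_range.2 (show k - 1 < k by omega)))
  rw [h.pow_iff, Nat.sub_add_cancel (by omega), mul_comm f]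

theorem dvd_plus {f k : ℕ} (hK : Fintype.card K = p ^ f) (hk : 4 ≤ k) (hf : 1 ≤ f)
    (h : PPD p (2 * (k - 1) * f) r) : r ∣ Nat.card (Cfsg.POmega K (Cfsg.quadFormPlus k K)) := by
  have h1 := Cfsg.Agent.S0293.result hK k hk
  have h0 : 3 * 1 ≤ (k - 1) * f := Nat.mul_le_mul (by omega) hf
  refine h.dvd_of_mul (h.not_dvd_four (by rw [mul_assoc]; omega) _) h1 ?_
  refine Dvd.dvd.mul_left ?_ _
  refine Dvd.dvd.trans ?_ (Finset.dvd_prod_of_mem _ (Finset.mem_range.2 (show k - 2 < k - 1 by omega)))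
  have h2 : k - 2 + 1 = k - 1 := by omega
  rw [h.pow_iff, h2, mul_comm f]

theorem dvd_minus {f k : ℕ} (hK : Fintype.card K = p ^ f) (hk : 4 ≤ k) (hf : 1 ≤ f) (a b : K)
    (hab : ∀ z₁ z₂ : K, z₁ ^ 2 + a * z₁ * z₂ + b * z₂ ^ 2 = 0 → z₁ = 0 ∧ z₂ = 0)
    (h : PPD p (2 * (f * k)) r) : r ∣ Nat.card (Cfsg.POmega K (Cfsg.quadFormMinus (k - 1) K a b)) := by
  have h1 := Cfsg.Agent.S0294.result hK k hk a b hab
  have h0 : 1 * 4 ≤ f * k := Nat.mul_le_mul hf hk
  refine h.dvd_of_mul (h.not_dvd_four (by omega) _) h1 ?_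
  exact ((h.dvd_add_one (by omega)).mul_left _).mul_right _

/-! ### The main theorems -/

theorem exists_card_eq [CharP K p] (hp : p.Prime) : ∃ f, 1 ≤ f ∧ Fintype.card K = p ^ f := by
  have := Fact.mk hp
  obtain ⟨n, -, hn⟩ := FiniteField.card K p
  exact ⟨n, n.2, hn⟩

theorem exists_pow_of_sq {q f : ℕ} (hp : p.Prime) (h : p ^ f = q ^ 2) (hf : 1 ≤ f) : ∃ g, 1 ≤ g ∧ q = p ^ g := by
  have h1 : q ∣ p ^ f := by rw [h]; exact dvd_pow_self q two_ne_zero
  obtain ⟨g, -, hg⟩ := (Nat.dvd_prime_pow hp).1 h1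
  refine ⟨g, ?_, hg⟩
  by_contra hcon
  obtain rfl : g = 0 := by omega
  rw [hg, pow_zero, one_pow] at h
  have := Nat.one_lt_pow (by omega : f ≠ 0) hp.one_lt
  omega

/-- Every classical group of natural degree at least `2m ≥ 16` has an order divisible by a prime `r` modulo which `p`
has order at least `2m`, except `PΩ⁺_2m(p)`. -/
theorem exists_large {m : ℕ} (hm : 8 ≤ m) (hp : p.Prime) (hp2 : p ≠ 2) {T : Type v} [Group T]
    (hT : H888.C6.ClDeg (2 * m) p T) :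
    (∃ e r, 2 * m < e ∧ PPD p e r ∧ r ∣ Nat.card T) ∨
    (∃ e r, e = 2 * m - 1 ∧ PPD p e r ∧ r ∣ Nat.card T) ∨
    (∃ r, PPD p (2 * m) r ∧ r ∣ Nat.card T ∧
      ((∃ (K : Type) (_ : Field K) (_ : Fintype K), Fintype.card K = p ∧ Nonempty (T ≃* PSp m K)) ∨
       (∃ (K : Type) (_ : Field K) (_ : Fintype K), Fintype.card K = p ∧
          Nonempty (T ≃* POmega K (quadFormOdd m K))) ∨
       (∃ (K : Type) (_ : Field K) (_ : Fintype K), Fintype.card K = p ∧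
          Nonempty (T ≃* POmega K (quadFormPlus (m + 1) K))) ∨
       (∃ (K : Type) (_ : Field K) (_ : Fintype K) (a b : K), Fintype.card K = p ∧
          (∀ z₁ z₂ : K, z₁ ^ 2 + a * z₁ * z₂ + b * z₂ ^ 2 = 0 → z₁ = 0 ∧ z₂ = 0) ∧
          Nonempty (T ≃* POmega K (quadFormMinus (m - 1) K a b))))) ∨
    (∃ (K : Type) (_ : Field K) (_ : Fintype K), Fintype.card K = p ∧
      Nonempty (T ≃* POmega K (quadFormPlus m K))) := by
  have hmul : ∀ {f k n : ℕ}, 1 ≤ f → n ≤ k → (f = 1 ∧ k = n) ∨ (f = 1 ∧ n < k) ∨ 2 * k ≤ f * k := by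
    intro f k n hf hk
    rcases Nat.lt_or_ge f 2 with h | h
    · obtain rfl : f = 1 := by omega
      rcases Nat.eq_or_lt_of_le hk with h1 | h1
      · exact Or.inl ⟨rfl, h1.symm⟩
      · exact Or.inr (Or.inl ⟨rfl, h1⟩)
    · exact Or.inr (Or.inr (Nat.mul_le_mul_right k h))
  rcases hT with h | h | h | h | h | h
  · -- linear
    obtain ⟨K, _, _, _, d, hd, ⟨e⟩⟩ := h
    obtain ⟨f, hf, hK⟩ := exists_card_eq (K := K) hp
    have hc := Nat.card_congr e.toEquiv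
    by_cases h1 : f = 1 ∧ d = 2 * m
    · obtain ⟨rfl, rfl⟩ := h1
      obtain ⟨r, hr⟩ := exists_ppd hp hp2 (e := 1 * (2 * m - 1)) (by omega)
      refine Or.inr (Or.inl ⟨_, r, by omega, hr, ?_⟩)
      rw [hc]
      exact dvd_psl hK (by omega) (by omega) (by omega) le_rfl hr
    · have h2 : 2 * m < f * d := by
        rcases hmul hf hd with ⟨h3, h4⟩ | ⟨h3, h4⟩ | h3
        · exact absurd ⟨h3, h4⟩ h1
        · rw [h3]; omega
        · omega
      obtain ⟨r, hr⟩ := exists_ppd hp hp2 (e := f * d) (by omega)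
      refine Or.inl ⟨_, r, h2, hr, ?_⟩
      rw [hc]
      exact dvd_psl hK (by omega) (by omega) le_rfl hf hr
  · -- unitary
    obtain ⟨K, _, _, _, d, q, hq, hd, ⟨e⟩⟩ := h
    obtain ⟨f, hf, hK⟩ := exists_card_eq (K := K) hp
    have hc := Nat.card_congr e.toEquiv
    obtain ⟨g, hg, rfl⟩ := exists_pow_of_sq hp (hK.symm.trans hq) hf
    obtain ⟨j, hj1, hj2, hjo⟩ : ∃ j, 2 * m - 1 ≤ j ∧ j ≤ d ∧ Odd j := by
      rcases Nat.even_or_odd d with h1 | h1
      · refine ⟨d - 1, by omega, by omega, ?_⟩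
        rcases h1 with ⟨c, hc⟩
        exact ⟨c - 1, by omega⟩
      · exact ⟨d, by omega, le_rfl, h1⟩
    have h3 : 1 * j ≤ g * j := Nat.mul_le_mul_right j hg
    obtain ⟨r, hr⟩ := exists_ppd hp hp2 (e := 2 * (g * j)) (by omega)
    refine Or.inl ⟨_, r, by omega, hr, ?_⟩
    rw [hc]
    exact dvd_psu hq (by omega) (by omega) hj2 hg hjo hr
  · -- symplectic
    obtain ⟨K, _, _, _, k, hk, ⟨e⟩⟩ := h
    obtain ⟨f, hf, hK⟩ := exists_card_eq (K := K) hp
    have hc := Nat.card_congr e.toEquiv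
    have h3 : 1 * k ≤ f * k := Nat.mul_le_mul_right k hf
    have h4 : 2 * k * f = 2 * (f * k) := by ring
    obtain ⟨r, hr⟩ := exists_ppd hp hp2 (e := 2 * k * f) (by omega)
    have hd : r ∣ Nat.card T := by
      rw [hc]
      exact dvd_psp hK (by omega) hf hr
    rcases hmul hf (show m ≤ k by omega) with ⟨rfl, rfl⟩ | ⟨rfl, h5⟩ | h5
    · rw [mul_one] at hr
      rw [pow_one] at hK
      exact Or.inr (Or.inr (Or.inl ⟨r, hr, hd, Or.inl ⟨K, _, _, hK, ⟨e⟩⟩⟩))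
    · exact Or.inl ⟨_, r, by omega, hr, hd⟩
    · exact Or.inl ⟨_, r, by omega, hr, hd⟩
  · -- odd orthogonal
    obtain ⟨K, _, _, _, k, hk, ⟨e⟩⟩ := h
    obtain ⟨f, hf, hK⟩ := exists_card_eq (K := K) hp
    have hc := Nat.card_congr e.toEquiv
    have h3 : 1 * k ≤ f * k := Nat.mul_le_mul_right k hf
    have h4 : 2 * k * f = 2 * (f * k) := by ring
    obtain ⟨r, hr⟩ := exists_ppd hp hp2 (e := 2 * k * f) (by omega)
    have hd : r ∣ Nat.card T := by
      rw [hc]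
      exact dvd_odd hK ((hp.odd_of_ne_two hp2).pow) (by omega) hf hr
    rcases hmul hf (show m ≤ k by omega) with ⟨rfl, rfl⟩ | ⟨rfl, h5⟩ | h5
    · rw [mul_one] at hr
      rw [pow_one] at hK
      exact Or.inr (Or.inr (Or.inl ⟨r, hr, hd, Or.inr (Or.inl ⟨K, _, _, hK, ⟨e⟩⟩)⟩))
    · exact Or.inl ⟨_, r, by omega, hr, hd⟩
    · exact Or.inl ⟨_, r, by omega, hr, hd⟩
  · -- plus
    obtain ⟨K, _, _, _, k, hk, ⟨e⟩⟩ := h
    obtain ⟨f, hf, hK⟩ := exists_card_eq (K := K) hp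
    have hc := Nat.card_congr e.toEquiv
    by_cases h0 : f = 1 ∧ k = m
    · obtain ⟨rfl, rfl⟩ := h0
      rw [pow_one] at hK
      exact Or.inr (Or.inr (Or.inr ⟨K, _, _, hK, ⟨e⟩⟩))
    have h3 : 1 * (k - 1) ≤ f * (k - 1) := Nat.mul_le_mul_right _ hf
    have h4 : 2 * (k - 1) * f = 2 * (f * (k - 1)) := by ring
    obtain ⟨r, hr⟩ := exists_ppd hp hp2 (e := 2 * (k - 1) * f) (by omega)
    have hd : r ∣ Nat.card T := by
      rw [hc]
      exact dvd_plus hK (by omega) hf hr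
    by_cases h5 : f = 1 ∧ k = m + 1
    · obtain ⟨rfl, rfl⟩ := h5
      rw [mul_one, Nat.add_sub_cancel] at hr
      rw [pow_one] at hK
      exact Or.inr (Or.inr (Or.inl ⟨r, hr, hd, Or.inr (Or.inr (Or.inl ⟨K, _, _, hK, ⟨e⟩⟩))⟩))
    · refine Or.inl ⟨_, r, ?_, hr, hd⟩
      rcases Nat.lt_or_ge f 2 with h6 | h6
      · obtain rfl : f = 1 := by omega
        omega
      · have h7 : 2 * (k - 1) ≤ f * (k - 1) := Nat.mul_le_mul_right _ h6
        omega
  · -- minus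
    obtain ⟨K, _, _, _, k, a, b, hk, hab, ⟨e⟩⟩ := h
    obtain ⟨f, hf, hK⟩ := exists_card_eq (K := K) hp
    have hc := Nat.card_congr e.toEquiv
    have h3 : 1 * k ≤ f * k := Nat.mul_le_mul_right k hf
    obtain ⟨r, hr⟩ := exists_ppd hp hp2 (e := 2 * (f * k)) (by omega)
    have hd : r ∣ Nat.card T := by
      rw [hc]
      exact dvd_minus hK (by omega) hf a b hab hr
    rcases hmul hf (show m ≤ k by omega) with ⟨rfl, rfl⟩ | ⟨rfl, h5⟩ | h5
    · rw [one_mul] at hr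
      rw [pow_one] at hK
      exact Or.inr (Or.inr (Or.inl ⟨r, hr, hd, Or.inr (Or.inr (Or.inr ⟨K, _, _, a, b, hK, hab, ⟨e⟩⟩))⟩))
    · exact Or.inl ⟨_, r, by omega, hr, hd⟩
    · exact Or.inl ⟨_, r, by omega, hr, hd⟩

/-- **Orders dividing `|PΩ⁺_2m(p)|`.** -/
theorem plus_card {m : ℕ} (hp : p.Prime) (hp2 : p ≠ 2) (hm : 8 ≤ m) {F : Type u} [Field F] [Fintype F]
    (hF : Fintype.card F = p) {T : Type v} [Group T] (hT : H888.C6.ClDeg (2 * m) p T)
    (hd : Nat.card T ∣ Nat.card (POmega F (quadFormPlus m F))) :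
    Nat.card T = Nat.card (POmega F (quadFormPlus m F)) := by
  rcases exists_large hm hp hp2 hT with ⟨e, r, h1, h2, h3⟩ | ⟨e, r, h1, h2, h3⟩ | ⟨r, h2, h3, -⟩ | h
  · have := plus_exp h2 hF (by omega) (h3.trans hd)
    omega
  · have := plus_exp h2 hF (by omega) (h3.trans hd)
    omega
  · have := plus_exp h2 hF (by omega) (h3.trans hd)
    omega
  · obtain ⟨K, _, _, hK, ⟨e⟩⟩ := h
    rw [Nat.card_congr e.toEquiv]
    have h1 := Cfsg.Agent.S0293.result hK m (by omega)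
    have h2 := Cfsg.Agent.S0293.result hF m (by omega)
    rw [← h2] at h1
    exact Nat.eq_of_mul_eq_mul_left (Nat.gcd_pos_of_pos_left _ (by norm_num)) h1

/-- **Orders dividing `|PSp_2m(p)|`.** -/
theorem sp_cases {m : ℕ} (hp : p.Prime) (hp2 : p ≠ 2) (hm : 8 ≤ m) {F : Type u} [Field F] [Fintype F]
    (hF : Fintype.card F = p) {T : Type v} [Group T] (hT : H888.C6.ClDeg (2 * m) p T)
    (hd : Nat.card T ∣ Nat.card (PSp m F)) :
    Nat.card T = Nat.card (PSp m F) ∨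
    (∃ (K : Type) (_ : Field K) (_ : Fintype K), Fintype.card K = p ∧
      Nonempty (T ≃* POmega K (quadFormPlus m K))) ∨
    (∃ (K : Type) (_ : Field K) (_ : Fintype K) (a b : K), Fintype.card K = p ∧
      (∀ z₁ z₂ : K, z₁ ^ 2 + a * z₁ * z₂ + b * z₂ ^ 2 = 0 → z₁ = 0 ∧ z₂ = 0) ∧
      Nonempty (T ≃* POmega K (quadFormMinus (m - 1) K a b))) := by
  have hsp := card_psp F m (by omega)
  rw [hF] at hsp
  have hg : Nat.gcd 2 (p - 1) = 2 := by
    refine Nat.gcd_eq_left ?_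
    rcases hp.odd_of_ne_two hp2 with ⟨c, hc⟩
    exact ⟨c, by omega⟩
  rw [hg] at hsp
  rcases exists_large hm hp hp2 hT with ⟨e, r, h1, h2, h3⟩ | ⟨e, r, h1, h2, h3⟩ | ⟨r, h2, h3, h⟩ | h
  · have := (sp_exp h2 hF (by omega) (h3.trans hd)).1
    omega
  · have := (sp_exp h2 hF (by omega) (h3.trans hd)).2 ⟨m - 1, by omega⟩
    omega
  · rcases h with h | h | h | h
    · obtain ⟨K, _, _, hK, ⟨e⟩⟩ := h
      left
      rw [Nat.card_congr e.toEquiv]
      have h4 := card_psp K m (by omega)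
      rw [hK, hg, ← hsp] at h4
      omega
    · obtain ⟨K, _, _, hK, ⟨e⟩⟩ := h
      left
      rw [Nat.card_congr e.toEquiv]
      have h4 := Cfsg.Agent.S0292.result hK (hp.odd_of_ne_two hp2) m (by omega)
      rw [← hsp] at h4
      omega
    · exfalso
      obtain ⟨K, _, _, hK, ⟨e⟩⟩ := h
      rw [Nat.card_congr e.toEquiv] at hd
      have h4 := Cfsg.Agent.S0293.result hK (m + 1) (by omega)
      have hpp : ∀ j, 1 ≤ j → ¬ p ∣ p ^ j - 1 := fun j hj => H878.coprime_pow_sub_one hp dvd_rfl hp.one_le hj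
      have h5 : p ^ ((m + 1) * m) ∣ Nat.card (POmega K (quadFormPlus (m + 1) K)) := by
        rw [Nat.add_sub_cancel, mul_assoc] at h4
        refine (H878.ppart_iff hp (A := Nat.gcd 4 (p ^ (m + 1) - 1)) ?_ ?_ h4 _).2 dvd_rfl
        · intro h6
          exact hpp (m + 1) (by omega) (h6.trans (Nat.gcd_dvd_right _ _))
        · refine fun h6 => ?_
          rcases (Nat.Prime.dvd_mul hp).1 h6 with h7 | h7
          · exact hpp _ (by omega) h7
          · exact H878.prime_not_dvd_prod hp _ _ (fun i _ => hpp _ (by omega)) h7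
      have h6 : p ^ ((m + 1) * m) ∣ p ^ (m ^ 2) := by
        refine (H878.ppart_iff hp (A := 2) ?_ ?_ hsp _).1 (h5.trans hd)
        · intro h7
          exact hp2 ((Nat.prime_dvd_prime_iff_eq hp Nat.prime_two).1 h7)
        · exact H878.prime_not_dvd_prod hp _ _ fun i _ => hpp _ (by omega)
      have h7 := (Nat.pow_dvd_pow_iff_le_right hp.one_lt).1 h6
      nlinarith
    · exact Or.inr (Or.inr h)
  · exact Or.inr (Or.inl h)

end Cfsg.Agent.H742.ClOrd
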