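import Cfsg.Agent.H546.F4.Eig
import Cfsg.Agent.H952.F4.Jord
import Cfsg.Agent.H952.F4.Inv
import Cfsg.Agent.H952.F4.Axes
import Cfsg.Agent.H55.F4.Spec
import Cfsg.Agent.H952.F4.Count
import Cfsg.Agent.S1054
import Cfsg.Agent.S1062

/-!
# S5926, F-Z1 (helper742): the special case of `A₅`

`Cases.spec` : involutions with 15-dimensional, elements of order 5 with 5-dimensional fixed space on the
27-dimensional module.
-/

set_option autoImplicit false

namespace Cfsg.Agent.H952.F4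

open Cfsg Cfsg.Lie Module
open Cfsg.Agent.ChevalleyStructure Cfsg.Agent.ChevalleyStructure.Elts
open Cfsg.Agent.ChevalleyStructure.E6Min.Tables Cfsg.Agent.ChevalleyStructure.E6Min.Basic

universe u

namespace Cases
open MaxA

variable {F : Type u} [Field F] [Finite F]

/-! ### numbers -/

theorem sub_one_ge {q : ℕ} (hq : 2 ≤ q) (k : ℕ) : q ^ k ≤ q ^ (k + 1) - 1 := by
  have h1 : q ^ (k + 1) = q ^ k * q := pow_succ _ _
  have h2 : 0 < q ^ k := Nat.pow_pos (by omega)
  have h3 : q ^ k * 2 ≤ q ^ k * q := Nat.mul_le_mul_left _ hq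
  omega

/-- the order of `F₄(q)` is large -/
theorem card_bound {H : Subgroup ↥(chevF4.group F)} (hH : Nat.card ↥H ≤ 120) (h2 : (2 : F) ≠ 0) {d : ℕ} (hd : d ≤ 26) :
    Nat.card ↥H * Nat.card F ^ d < Nat.card ↥(chevF4.group F) * (Nat.card F - 1) := by
  classical
  have _ := Fintype.ofFinite F
  set q := Nat.card F with hq
  have hq1 : 1 < q := Finite.one_lt_card
  have hq3 : 3 ≤ q := by
    by_contra hcon
    have h3 : q = 2 := by omega
    apply h2
    have h4 : ((Nat.card F : ℕ) : F) = 0 := by rw [Nat.card_eq_fintype_card]; exact Nat.cast_card_eq_zero F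
    rw [← hq, h3] at h4
    exact_mod_cast h4
  have hc : Nat.card ↥(chevF4.group F) = q ^ 24 * (q ^ 2 - 1) * (q ^ 6 - 1) * (q ^ 8 - 1) * (q ^ 12 - 1) :=
    Cfsg.Agent.S1062.result (by rw [hq, Nat.card_eq_fintype_card])
  have h48 : q ^ 48 ≤ Nat.card ↥(chevF4.group F) := by
    rw [hc]
    calc q ^ 48 = q ^ 24 * q ^ 1 * q ^ 5 * q ^ 7 * q ^ 11 := by rw [← pow_add, ← pow_add, ← pow_add, ← pow_add]
      _ ≤ _ := by
        refine Nat.mul_le_mul (Nat.mul_le_mul (Nat.mul_le_mul (Nat.mul_le_mul_left _ ?_) ?_) ?_) ?_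
        · exact sub_one_ge (by omega) 1
        · exact sub_one_ge (by omega) 5
        · exact sub_one_ge (by omega) 7
        · exact sub_one_ge (by omega) 11
  have h26 : q ^ d ≤ q ^ 26 := Nat.pow_le_pow_right (by omega) hd
  have h22 : 120 < q ^ 22 := lt_of_lt_of_le (by norm_num) (Nat.pow_le_pow_left hq3 22)
  calc Nat.card ↥H * q ^ d ≤ 120 * q ^ 26 := Nat.mul_le_mul hH h26
    _ < q ^ 22 * q ^ 26 := Nat.mul_lt_mul_of_pos_right h22 (Nat.pow_pos (by omega))
    _ = q ^ 48 := by rw [← pow_add]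
    _ ≤ Nat.card ↥(chevF4.group F) * 1 := by rw [mul_one]; exact h48
    _ ≤ _ := Nat.mul_le_mul_left _ (by omega)

/-! ### the group `A₅` -/

theorem v0_sq : v0 * v0 = 1 := by decide
theorem z5_pow : z5 ^ 5 = 1 := by decide
theorem v0_z5 : v0 * z5 * v0⁻¹ = z5⁻¹ := by decide
theorem v0_ne : v0 ≠ 1 := by decide
theorem z5_ne : z5 ≠ 1 := by decide

theorem order_v0 : orderOf v0 = 2 := orderOf_eq_prime (by rw [pow_two, v0_sq]) v0_ne
theorem order_z5 : orderOf z5 = 5 := by
  have : Fact (Nat.Prime 5) := ⟨by norm_num⟩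
  exact orderOf_eq_prime z5_pow z5_ne

theorem words : ∀ a : ↥(alternatingGroup (Fin 5)), ∃ (i : Fin 5) (j : Fin 3) (k l : Fin 2),
    a = z5 ^ (i : ℕ) * c3 ^ (j : ℕ) * v0 ^ (k : ℕ) * v1 ^ (l : ℕ) := by decide +kernel

/-! ### generalities on representations -/

section rep

variable {G V : Type*} [Group G] [AddCommGroup V] [Module F V] (σ : Representation F G V)

omit [Finite F] in
theorem mem_es {T : Module.End F V} {μ : F} {v : V} : v ∈ es T μ ↔ T v = μ • v := Module.End.mem_eigenspace_iff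

omit [Finite F] in
theorem act_pow_fix {z : G} {x : V} (hx : σ z x = x) (k : ℕ) : σ (z ^ k) x = x := by
  induction k with
  | zero => rw [pow_zero]; exact rone σ x
  | succ k ih => rw [pow_succ, rmul, hx, ih]

omit [Finite F] in
/-- the stabilizer of a submodule (one inclusion is enough for a finite group) -/
theorem span_stable (W : Submodule F V) {a b : G} (ha : ∀ w ∈ W, σ a w ∈ W) (hb : ∀ w ∈ W, σ b w ∈ W) :
    ∀ w ∈ W, σ (a * b) w ∈ W := by
  intro w hw
  rw [rmul]
  exact ha _ (hb _ hw)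

omit [Finite F] in
theorem span_stable_pow (W : Submodule F V) {a : G} (ha : ∀ w ∈ W, σ a w ∈ W) (k : ℕ) :
    ∀ w ∈ W, σ (a ^ k) w ∈ W := by
  induction k with
  | zero => intro w hw; rw [pow_zero, rone]; exact hw
  | succ k ih => rw [pow_succ]; exact span_stable σ W ih ha

omit [Finite F] in
theorem stable_span {X : Fin 3 → V} {a : G} (h : ∀ i, σ a (X i) ∈ Submodule.span F (Set.range X)) :
    ∀ w ∈ Submodule.span F (Set.range X), σ a w ∈ Submodule.span F (Set.range X) := by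
  intro w hw
  induction hw using Submodule.span_induction with
  | mem x hx => obtain ⟨i, rfl⟩ := hx; exact h i
  | zero => rw [map_zero]; exact zero_mem _
  | add x y _ _ hx hy => rw [map_add]; exact add_mem hx hy
  | smul c x _ hx => rw [map_smul]; exact Submodule.smul_mem _ _ hx

end rep

omit [Finite F] in
/-- the 3-dimensional module is stable -/
theorem stable_all {V : Type*} [AddCommGroup V] [Module F V] (h2 : (2 : F) ≠ 0)
    (σ : Representation F ↥(alternatingGroup (Fin 5)) V) {t : F} {X : Fin 3 → V}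
    (h0 : σ v0 (X 0) = X 0 ∧ σ v0 (X 1) = -X 1 ∧ σ v0 (X 2) = -X 2)
    (h1 : σ v1 (X 0) = -X 0 ∧ σ v1 (X 1) = X 1 ∧ σ v1 (X 2) = -X 2)
    (hc : σ c3 (X 0) = X 1 ∧ σ c3 (X 1) = X 2 ∧ σ c3 (X 2) = X 0)
    (hz0 : (2 : F) • σ z5 (X 0) = (t - 1) • X 0 - t • X 1 + X 2)
    (hz1 : (2 : F) • σ z5 (X 1) = t • X 0 + X 1 + (t - 1) • X 2)
    (hz2 : (2 : F) • σ z5 (X 2) = -X 0 + (t - 1) • X 1 + t • X 2) (a : ↥(alternatingGroup (Fin 5))) :
    ∀ w ∈ Submodule.span F (Set.range X), σ a w ∈ Submodule.span F (Set.range X) := by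
  have hX : ∀ i, X i ∈ Submodule.span F (Set.range X) := fun i => Submodule.subset_span ⟨i, rfl⟩
  have half : ∀ v : V, (2 : F) • v ∈ Submodule.span F (Set.range X) → v ∈ Submodule.span F (Set.range X) := by
    intro v hv
    have h := Submodule.smul_mem _ (2 : F)⁻¹ hv
    rwa [smul_smul, inv_mul_cancel₀ h2, one_smul] at h
  have hv0 : ∀ w ∈ Submodule.span F (Set.range X), σ v0 w ∈ Submodule.span F (Set.range X) := by
    refine stable_span σ fun i => ?_
    fin_cases i
    · change σ v0 (X 0) ∈ _; rw [h0.1]; exact hX 0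
    · change σ v0 (X 1) ∈ _; rw [h0.2.1]; exact neg_mem (hX 1)
    · change σ v0 (X 2) ∈ _; rw [h0.2.2]; exact neg_mem (hX 2)
  have hv1 : ∀ w ∈ Submodule.span F (Set.range X), σ v1 w ∈ Submodule.span F (Set.range X) := by
    refine stable_span σ fun i => ?_
    fin_cases i
    · change σ v1 (X 0) ∈ _; rw [h1.1]; exact neg_mem (hX 0)
    · change σ v1 (X 1) ∈ _; rw [h1.2.1]; exact hX 1
    · change σ v1 (X 2) ∈ _; rw [h1.2.2]; exact neg_mem (hX 2)
  have hc3 : ∀ w ∈ Submodule.span F (Set.range X), σ c3 w ∈ Submodule.span F (Set.range X) := by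
    refine stable_span σ fun i => ?_
    fin_cases i
    · change σ c3 (X 0) ∈ _; rw [hc.1]; exact hX 1
    · change σ c3 (X 1) ∈ _; rw [hc.2.1]; exact hX 2
    · change σ c3 (X 2) ∈ _; rw [hc.2.2]; exact hX 0
  have hz5 : ∀ w ∈ Submodule.span F (Set.range X), σ z5 w ∈ Submodule.span F (Set.range X) := by
    refine stable_span σ fun i => half _ ?_
    fin_cases i
    · change (2 : F) • σ z5 (X 0) ∈ _
      rw [hz0]
      exact add_mem (sub_mem (Submodule.smul_mem _ _ (hX 0)) (Submodule.smul_mem _ _ (hX 1))) (hX 2)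
    · change (2 : F) • σ z5 (X 1) ∈ _
      rw [hz1]
      exact add_mem (add_mem (Submodule.smul_mem _ _ (hX 0)) (hX 1)) (Submodule.smul_mem _ _ (hX 2))
    · change (2 : F) • σ z5 (X 2) ∈ _
      rw [hz2]
      exact add_mem (add_mem (neg_mem (hX 0)) (Submodule.smul_mem _ _ (hX 1))) (Submodule.smul_mem _ _ (hX 2))
  obtain ⟨i, j, k, l, rfl⟩ := words a
  exact span_stable σ _ (span_stable σ _ (span_stable σ _ (span_stable_pow σ _ hz5 _) (span_stable_pow σ _ hc3 _))
    (span_stable_pow σ _ hv0 _)) (span_stable_pow σ _ hv1 _)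

/-! ### the trace form -/

omit [Finite F] in
theorem tf_neg_left (x y : I27 → F) : tf (-x) y = -tf x y := by
  rw [← neg_one_smul F x, Jord.tf_smul_left, neg_one_mul]

omit [Finite F] in
theorem tf_neg_right (x y : I27 → F) : tf x (-y) = -tf x y := by
  rw [Jord.tf_comm, tf_neg_left, Jord.tf_comm]

omit [Finite F] in
theorem tf_add_right (x y y' : I27 → F) : tf x (y + y') = tf x y + tf x y' := by
  rw [Jord.tf_comm, Jord.tf_add_left, Jord.tf_comm y, Jord.tf_comm y']

omit [Finite F] in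
theorem tf_smul_right (c : F) (x y : I27 → F) : tf x (c • y) = c * tf x y := by
  rw [Jord.tf_comm, Jord.tf_smul_left, Jord.tf_comm]

omit [Finite F] in
theorem tf_sub_right (x y y' : I27 → F) : tf x (y - y') = tf x y - tf x y' := by
  rw [sub_eq_add_neg, tf_add_right, tf_neg_right, sub_eq_add_neg]

omit [Finite F] in
theorem tf_sum_right {ι : Type*} (s : Finset ι) (x : I27 → F) (y : ι → I27 → F) :
    tf x (∑ i ∈ s, y i) = ∑ i ∈ s, tf x (y i) := by
  classical
  induction s using Finset.induction_on with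
  | empty => rw [Finset.sum_empty, Finset.sum_empty]
             rw [← zero_smul F (0 : I27 → F), tf_smul_right, zero_mul]
  | insert a s ha ih => rw [Finset.sum_insert ha, Finset.sum_insert ha, tf_add_right, ih]

omit [Finite F] in
/-- `T(X 0, X 0) ≠ 0` -/
theorem tf_ne (h2 : (2 : F) ≠ 0) (h5 : (5 : F) ≠ 0) (σ : Representation F ↥(alternatingGroup (Fin 5)) (I27 → F))
    (htf : ∀ g x y, tf (σ g x) (σ g y) = tf x y)
    (hd : finrank F ↥(es (σ z5) 1 ⊓ es (σ v0) (-1)) = 1) {t : F} {X : Fin 3 → I27 → F}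
    (h1 : σ v1 (X 0) = -X 0 ∧ σ v1 (X 1) = X 1 ∧ σ v1 (X 2) = -X 2)
    (hc : σ c3 (X 0) = X 1 ∧ σ c3 (X 1) = X 2 ∧ σ c3 (X 2) = X 0) (hx0 : X 1 + t • X 2 ≠ 0)
    (hzx : σ z5 (X 1 + t • X 2) = X 1 + t • X 2) (hsx : σ v0 (X 1 + t • X 2) = -(X 1 + t • X 2)) :
    tf (X 0) (X 0) ≠ 0 := by
  intro hq
  set x := X 1 + t • X 2 with hx
  have e12 : tf (X 1) (X 2) = 0 := by
    have h := htf v1 (X 1) (X 2)
    rw [h1.2.1, h1.2.2, tf_neg_right] at h
    have h3 : (2 : F) * tf (X 1) (X 2) = 0 := by linear_combination -h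
    exact (mul_eq_zero.1 h3).resolve_left h2
  have e11 : tf (X 1) (X 1) = 0 := by
    have h := htf c3 (X 0) (X 0)
    rw [hc.1, hq] at h
    exact h
  have e22 : tf (X 2) (X 2) = 0 := by
    have h := htf c3 (X 1) (X 1)
    rw [hc.2.1, e11] at h
    exact h
  have exx : tf x x = 0 := by
    rw [hx, Jord.tf_add_left, tf_add_right, tf_add_right, Jord.tf_smul_left, Jord.tf_smul_left, tf_smul_right,
      tf_smul_right, Jord.tf_comm (X 2) (X 1), e11, e12, e22]
    ring
  apply hx0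
  refine Jord.tf_nondeg fun y => ?_
  set y1 : I27 → F := ∑ k ∈ Finset.range 5, σ (z5 ^ k) y with hy1
  have hzy1 : σ z5 y1 = y1 := by
    rw [hy1, map_sum]
    have h : ∀ k, σ z5 (σ (z5 ^ k) y) = σ (z5 ^ (k + 1)) y := by
      intro k
      rw [← rmul, ← pow_succ']
    rw [Finset.sum_congr rfl fun k _ => h k, Finset.sum_range_succ, z5_pow, Finset.sum_range_succ' _ 4, pow_zero]
  have hsy : σ z5 (σ v0 y1) = σ v0 y1 := by
    have h3 : z5 * v0 = v0 * z5⁻¹ := by decide
    have h4 : σ z5⁻¹ y1 = y1 := by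
      conv_lhs => rw [← hzy1]
      exact rinv σ z5 y1
    rw [← rmul, h3, rmul, h4]
  set y2 := y1 - σ v0 y1 with hy2
  have m2 : y2 ∈ es (σ z5) 1 ⊓ es (σ v0) (-1) := by
    refine ⟨mem_es.2 ?_, mem_es.2 ?_⟩
    · rw [one_smul, hy2, map_sub, hzy1, hsy]
    · rw [hy2, map_sub, ← rmul, v0_sq, rone, neg_one_smul, neg_sub]
  have mx : x ∈ es (σ z5) 1 ⊓ es (σ v0) (-1) :=
    ⟨mem_es.2 (by rw [one_smul, hzx]), mem_es.2 (by rw [neg_one_smul, hsx])⟩
  obtain ⟨c, hcc⟩ := (finrank_eq_one_iff_of_nonzero' (⟨x, mx⟩ : ↥(es (σ z5) 1 ⊓ es (σ v0) (-1)))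
    (fun h => hx0 (congrArg Subtype.val h))).1 hd ⟨y2, m2⟩
  have hcc' : c • x = y2 := congrArg Subtype.val hcc
  have k1 : tf x y2 = 0 := by rw [← hcc', tf_smul_right, exx, mul_zero]
  have k2 : tf x y1 = 5 * tf x y := by
    rw [hy1, tf_sum_right]
    have h : ∀ k, tf x (σ (z5 ^ k) y) = tf x y := by
      intro k
      have h4 := htf (z5 ^ k) x y
      rwa [act_pow_fix σ hzx k] at h4
    rw [Finset.sum_congr rfl fun k _ => h k, Finset.sum_const, Finset.card_range, nsmul_eq_mul, Nat.cast_ofNat]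
  have k3 : tf x (σ v0 y1) = -tf x y1 := by
    have h4 := htf v0 x y1
    rw [hsx, tf_neg_left] at h4
    linear_combination -h4
  have k4 : (2 * 5 : F) * tf x y = 0 := by
    have h4 : tf x y2 = tf x y1 - tf x (σ v0 y1) := by rw [hy2, tf_sub_right]
    rw [k1, k3, k2] at h4
    linear_combination -h4
  exact (mul_eq_zero.1 k4).resolve_left (mul_ne_zero h2 h5)

/-- the pointwise stabilizer of `e i`, `Y i` -/
def ptStab {ρ : ↥(chevF4.group F) →* GL I27 F} (e Y : Fin 3 → I27 → F) : Subgroup ↥(chevF4.group F) where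
  carrier := {g | (∀ i, JK ρ g (e i) = e i) ∧ ∀ i, JK ρ g (Y i) = Y i}
  one_mem' := ⟨fun i => rone (JK ρ) _, fun i => rone (JK ρ) _⟩
  mul_mem' := by
    rintro g h ⟨h1, h2⟩ ⟨h3, h4⟩
    exact ⟨fun i => by rw [rmul, h3, h1], fun i => by rw [rmul, h4, h2]⟩
  inv_mem' := by
    rintro g ⟨h1, h2⟩
    exact ⟨fun i => by conv_lhs => rw [← h1 i, rinv],
      fun i => by conv_lhs => rw [← h2 i, rinv]⟩

/-- `Cases.spec` with `Tor.tab_finite`, `Tor.axis_dim`, `Tor.axis` as hypotheses. -/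
theorem spec_of (p : ℕ) [Fact p.Prime] [CharP F p] (hp2 : p ≠ 2) (hp5 : p ≠ 5)
    {H : Subgroup ↥(chevF4.group F)}
    {ρ : ↥(chevF4.group F) →* GL I27 F} (hρ : IsJ ρ) {φ : ↥(alternatingGroup (Fin 5)) →* ↥(chevF4.group F)}
    (htab : Tab p (LK F) (JK ρ))
    (haxd : ∀ {z : ↥(chevF4.group F)} (_ : z ≠ 1) (_ : z ^ 5 = 1)
      (_ : ev (JK ρ z) 1 = 5) (μ : F) (_ : μ * μ + μ = 1),
      (finrank F ↥(LinearMap.ker (JK ρ z * JK ρ z - μ • JK ρ z + 1)) = 12 ∧
        LinearMap.trace F _ (JK ρ z) - LinearMap.trace F _ (JK ρ (z * z)) = 2 * μ + 1) ∨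
      (finrank F ↥(LinearMap.ker (JK ρ z * JK ρ z - μ • JK ρ z + 1)) = 10 ∧
        LinearMap.trace F _ (JK ρ z) - LinearMap.trace F _ (JK ρ (z * z)) = -(2 * μ + 1)))
    (haxis : ∀ {z s : ↥(chevF4.group F)} (_ : z ≠ 1) (_ : z ^ 5 = 1)
      (_ : s * z * s⁻¹ = z⁻¹) (_ : ev (JK ρ z) 1 = 5) (μ : F)
      (_ : finrank F ↥(LinearMap.ker (JK ρ z * JK ρ z - μ • JK ρ z + 1)) = 12)
      (x : I27 → F) (_ : JK ρ z x = x) (_ : JK ρ s x = -x) (w : I27 → F)
      (_ : JK ρ z (JK ρ z w) - μ • JK ρ z w + w = 0), cr (sh x) w = 0)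
    (hfix : ∀ x : I27 → F, tr1 x = 0 → (∀ g, JK ρ (φ g) x = x) → ∃ c : F, x = c • u0 F)
    (hcs : ∀ a b : I27 → F, ∃ g : ↥(chevF4.group F), g ≠ 1 ∧ JK ρ g a = a ∧ JK ρ g b = b)
    (hM : MaxAlt H 5 φ) (h2 : ∀ g, orderOf g = 2 → ev (JK ρ (φ g)) 1 = 15)
    (_h3 : p ≠ 3 → ∀ g, orderOf g = 3 → ev (JK ρ (φ g)) 1 = 9)
    (h5 : ∀ g, orderOf g = 5 → ev (JK ρ (φ g)) 1 = 5) : False := by
  classical
  have hp := (Fact.out : p.Prime)
  have ne_of : ∀ r : ℕ, r.Prime → p ≠ r → ((r : ℕ) : F) ≠ 0 := by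
    intro r hr hpr h
    exact hpr ((Nat.prime_dvd_prime_iff_eq hp hr).1 ((CharP.cast_eq_zero_iff F p r).1 h))
  have two_ne : (2 : F) ≠ 0 := by exact_mod_cast ne_of 2 Nat.prime_two hp2
  have five_ne : (5 : F) ≠ 0 := by exact_mod_cast ne_of 5 Nat.prime_five hp5
  have hs : IsSimpleGroup ↥(chevF4.group F) := (Cfsg.Agent.S1054.result chevF4 (by simp)).1
  have hz1 : φ z5 ≠ 1 := fun h => z5_ne (hM.inj (by rw [h, map_one]))
  have hzp : φ z5 ^ 5 = 1 := by rw [← map_pow, z5_pow, map_one]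
  -- `H = A`
  have hHA : H = φ.range := by
    rcases hM.five rfl with h | h
    · exact h
    · exfalso
      obtain ⟨x, hx, he⟩ := h (φ z5) ⟨z5, rfl⟩ hz1 hzp
      have h1 := (htab.five_rat hp5 (φ z5) hz1 hzp ⟨x, he⟩).1
      rw [h5 z5 order_z5] at h1
      omega
  let σ : Representation F ↥(alternatingGroup (Fin 5)) (I27 → F) := MonoidHom.comp (JK ρ) φ
  have hσ : ∀ g, σ g = JK ρ (φ g) := fun g => rfl
  have h27 : finrank F (I27 → F) = 27 := by
    rw [Module.finrank_fintype_fun_eq_card]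
    decide +kernel
  have hd : finrank F ↥(es (σ z5) 1 ⊓ es (σ v0) (-1)) = 1 := by
    have e1 : ev (σ v0) 1 = 15 := h2 v0 order_v0
    have e5 : ev (σ z5) 1 = 5 := h5 z5 order_z5
    have e2 := Eig.ev_neg two_ne (σ v0)
    have e3 : ev (σ v0 * σ v0) 1 = 27 := by
      rw [← map_mul, v0_sq, map_one]
      have h4 : Module.End.eigenspace (1 : Module.End F (I27 → F)) 1 = ⊤ := by
        rw [eq_top_iff]
        intro v _
        rw [Module.End.mem_eigenspace_iff, one_smul, Module.End.one_apply]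
      rw [ev, h4, finrank_top, h27]
    have e4 := Eig.dihedral two_ne σ (z := z5) (s := v0) (m := 5) (by decide) (by exact_mod_cast five_ne) z5_pow
      v0_sq v0_z5 (μ := -1) (Or.inr rfl)
    rw [h27, e5] at e4
    omega
  obtain ⟨t, X, ht, hX, h0, h1, hc, hz0, hz1', hz2⟩ := Spec.axes two_ne five_ne σ hd
  -- the fixed vector of `z5`
  set x := X 1 + t • X 2 with hx
  have hzx : σ z5 x = x := by
    have h4 : (2 : F) • σ z5 x = (2 : F) • x := by
      rw [hx, map_add, map_smul, smul_add, smul_comm (2 : F) t, hz1', hz2]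
      have ht' : t * (t - 1) = 1 := by linear_combination ht
      have h6 : t • (-X 0 + (t - 1) • X 1 + t • X 2) = -(t • X 0) + X 1 + (t + 1) • X 2 := by
        rw [smul_add, smul_add, smul_smul, smul_smul, ht', ht, one_smul, smul_neg]
      rw [h6]
      module
    have h5' := congrArg (fun v => (2 : F)⁻¹ • v) h4
    simpa only [smul_smul, inv_mul_cancel₀ two_ne, one_smul] using h5'
  have hsx : σ v0 x = -x := by
    rw [hx, map_add, map_smul, h0.2.1, h0.2.2, smul_neg, neg_add]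
  have hx0 : x ≠ 0 := by
    intro h
    have h4 : σ v1 x = 0 := by rw [h, map_zero]
    rw [hx, map_add, map_smul, h1.2.1, h1.2.2, smul_neg] at h4
    have h6 : (2 : F) • X 1 = 0 := by
      have h7 : X 1 + t • X 2 + (X 1 + -(t • X 2)) = 0 := by rw [h4, ← hx, h, add_zero]
      rw [← h7]
      module
    exact hX 1 ((smul_eq_zero.1 h6).resolve_left two_ne)
  have htf : ∀ g x y, tf (σ g x) (σ g y) = tf x y := fun g x y => Inv.tf_inv hρ two_ne (φ g) x y
  have hsh : ∀ g x, σ g (sh x) = sh (σ g x) := fun g x => (Inv.sh_inv hρ two_ne (φ g) x).symm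
  have hq := tf_ne two_ne five_ne σ htf hd h1 hc hx0 hzx hsx
  -- characteristic 3
  have hch3 : (3 : F) = 0 → cr (sh (X 1 + t • X 2)) (X 0) = 0 := by
    intro _
    have hμ : (t - 1) * (t - 1) + (t - 1) = 1 := by linear_combination ht
    have hw : JK ρ (φ z5) (JK ρ (φ z5) (X 0)) - (t - 1) • JK ρ (φ z5) (X 0) + X 0 = 0 := by
      rw [← hσ]
      have k1 : (2 : F) • ((2 : F) • σ z5 (σ z5 (X 0))) = (-(2 * t)) • X 0 - (2 : F) • X 1 + (2 * t - 2) • X 2 := by
        rw [← map_smul, hz0, map_add, map_sub, map_smul, map_smul, smul_add, smul_sub, smul_comm (2 : F) (t - 1),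
          smul_comm (2 : F) t, hz0, hz1', hz2]
        have a1 : (t - 1) * (t - 1) = 2 - t := by linear_combination ht
        have a2 : (t - 1) * t = 1 := by linear_combination ht
        have a3 : t * t = t + 1 := ht
        have a4 : t * (t - 1) = 1 := by linear_combination ht
        have b1 : (t - 1) • ((t - 1) • X 0 - t • X 1 + X 2) = (2 - t) • X 0 - X 1 + (t - 1) • X 2 := by
          rw [smul_add, smul_sub, smul_smul, smul_smul, a1, a2, one_smul]
        have b2 : t • (t • X 0 + X 1 + (t - 1) • X 2) = (t + 1) • X 0 + t • X 1 + X 2 := by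
          rw [smul_add, smul_add, smul_smul, smul_smul, a3, a4, one_smul]
        rw [b1, b2]
        module
      have k2 : (2 : F) • ((2 : F) • ((t - 1) • σ z5 (X 0))) = (4 - 2 * t) • X 0 - (2 : F) • X 1 + (2 * t - 2) • X 2 := by
        rw [smul_comm (2 : F) (t - 1), hz0]
        have a1 : (t - 1) * (t - 1) = 2 - t := by linear_combination ht
        have a2 : (t - 1) * t = 1 := by linear_combination ht
        have b1 : (t - 1) • ((t - 1) • X 0 - t • X 1 + X 2) = (2 - t) • X 0 - X 1 + (t - 1) • X 2 := by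
          rw [smul_add, smul_sub, smul_smul, smul_smul, a1, a2, one_smul]
        rw [b1]
        module
      have k3 : (2 : F) • ((2 : F) • (σ z5 (σ z5 (X 0)) - (t - 1) • σ z5 (X 0) + X 0)) = 0 := by
        rw [smul_add, smul_sub, smul_add, smul_sub, k1, k2]
        module
      exact (smul_eq_zero.1 ((smul_eq_zero.1 k3).resolve_left two_ne)).resolve_left two_ne
    rcases haxd hz1 hzp (h5 z5 order_z5) (t - 1) hμ with ⟨h12, -⟩ | ⟨-, htr⟩
    · refine haxis (z := φ z5) (s := φ v0) hz1 hzp ?_ (h5 z5 order_z5) (t - 1) h12 x hzx hsx (X 0) hw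
      rw [← map_inv, ← map_mul, ← map_mul, v0_z5, map_inv]
    · exfalso
      have h4 := Spec.trace_diff two_ne five_ne σ hd ht hX h0 h1 hc hz0 hz1' hz2
      rw [hσ, hσ, map_mul φ, htr] at h4
      have h6 : (2 : F) * (2 * t - 1) = 0 := by linear_combination -h4
      have h7 : 2 * t - 1 = 0 := (mul_eq_zero.1 h6).resolve_left two_ne
      exact five_ne (by linear_combination (-(4 : F)) * ht + (2 * t - 1) * h7)
  obtain ⟨q, e, Y, hq0, he0, hesum, hshe, -, c01, c12, -, -, hcreY, hcreYj, hedef, hY0, hY1, hY2⟩ :=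
    Spec.algebra two_ne five_ne σ (fun g => Inv.u0_inv hρ (φ g)) htf hsh (fun g x => Inv.N_inv hρ (φ g) x) hfix
      ht hX h0 h1 hc hz0 hz1' hz2 hq hch3
  let C : Subgroup ↥(chevF4.group F) := ptStab (ρ := ρ) e Y
  have memC : ∀ g, g ∈ C ↔ (∀ i, JK ρ g (e i) = e i) ∧ ∀ i, JK ρ g (Y i) = Y i := fun g => Iff.rfl
  -- `C` fixes `sh w` and `cr w w'` for `w, w'` in the 3-dimensional module
  have cr_add_right : ∀ x y y' : I27 → F, cr x (y + y') = cr x y + cr x y' := by
    intro x y y'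
    rw [Jord.cr_comm, Jord.cr_add_left, Jord.cr_comm y, Jord.cr_comm y']
  have cr_smul_right : ∀ (c : F) (x y : I27 → F), cr x (c • y) = c • cr x y := by
    intro c x y
    rw [Jord.cr_comm, Jord.cr_smul_left, Jord.cr_comm]
  have fixX : ∀ g ∈ C, ∀ i j, JK ρ g (cr (X i) (X j)) = cr (X i) (X j) := by
    intro g hg i j
    obtain ⟨k1, k2⟩ := (memC g).1 hg
    have hshX : ∀ i, JK ρ g (sh (X i)) = sh (X i) := by
      intro i
      have h4 := k1 i
      rw [hedef, map_neg, neg_inj] at h4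
      exact h4
    have a01 : JK ρ g (cr (X 0) (X 1)) = cr (X 0) (X 1) := by rw [← hY2]; exact k2 2
    have a12 : JK ρ g (cr (X 1) (X 2)) = cr (X 1) (X 2) := by rw [← hY0]; exact k2 0
    have a20 : JK ρ g (cr (X 2) (X 0)) = cr (X 2) (X 0) := by rw [← hY1]; exact k2 1
    have aii : ∀ i, JK ρ g (cr (X i) (X i)) = cr (X i) (X i) := by
      intro i
      rw [Jord.cr_self, map_smul, hshX]
    have a10 := a01
    rw [Jord.cr_comm] at a10
    have a21 := a12
    rw [Jord.cr_comm] at a21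
    have a02 := a20
    rw [Jord.cr_comm] at a02
    fin_cases i <;> fin_cases j
    · exact aii 0
    · exact a01
    · exact a02
    · exact a10
    · exact aii 1
    · exact a12
    · exact a20
    · exact a21
    · exact aii 2
  have fixW : ∀ g ∈ C, ∀ w ∈ Submodule.span F (Set.range X), ∀ w' ∈ Submodule.span F (Set.range X),
      JK ρ g (cr w w') = cr w w' := by
    intro g hg w hw w' hw'
    induction hw using Submodule.span_induction with
    | mem x hx =>
      obtain ⟨i, rfl⟩ := hx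
      induction hw' using Submodule.span_induction with
      | mem x hx => obtain ⟨j, rfl⟩ := hx; exact fixX g hg i j
      | zero => rw [← zero_smul F (0 : I27 → F), cr_smul_right, zero_smul, map_zero]
      | add x y _ _ hx hy => rw [cr_add_right, map_add, hx, hy]
      | smul c x _ hx => rw [cr_smul_right, map_smul, hx]
    | zero => rw [← zero_smul F (0 : I27 → F), Jord.cr_smul_left, zero_smul, map_zero]
    | add x y _ _ hx hy => rw [Jord.cr_add_left, map_add, hx, hy]
    | smul c x _ hx => rw [Jord.cr_smul_left, map_smul, hx]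
  have fixS : ∀ g ∈ C, ∀ w ∈ Submodule.span F (Set.range X), JK ρ g (sh w) = sh w := by
    intro g hg w hw
    have h4 := fixW g hg w hw w hw
    rw [Jord.cr_self, map_smul] at h4
    have h6 := congrArg (fun v => (2 : F)⁻¹ • v) h4
    simpa only [smul_smul, inv_mul_cancel₀ two_ne, one_smul] using h6
  have hXm : ∀ i, X i ∈ Submodule.span F (Set.range X) := fun i => Submodule.subset_span ⟨i, rfl⟩
  have hst := stable_all two_ne σ h0 h1 hc hz0 hz1' hz2
  -- `H` normalizes `C`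
  have hcrσ : ∀ g x y, JK ρ g (cr x y) = cr (JK ρ g x) (JK ρ g y) := fun g x y => (Inv.cr_inv hρ two_ne g x y).symm
  have hshσ : ∀ g x, JK ρ g (sh x) = sh (JK ρ g x) := fun g x => (Inv.sh_inv hρ two_ne g x).symm
  have hnorm : ∀ a : ↥(alternatingGroup (Fin 5)), ∀ c ∈ C, φ a * c * (φ a)⁻¹ ∈ C := by
    intro a c hcC
    have back : ∀ v, JK ρ (φ a) (JK ρ (φ a)⁻¹ v) = v := by
      intro v
      rw [← rmul, mul_inv_cancel, rone]
    have hstab : ∀ i, JK ρ (φ a)⁻¹ (X i) ∈ Submodule.span F (Set.range X) := by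
      intro i
      rw [← map_inv]
      exact hst a⁻¹ (X i) (hXm i)
    have keyc : ∀ i j, JK ρ (φ a * c * (φ a)⁻¹) (cr (X i) (X j)) = cr (X i) (X j) := by
      intro i j
      rw [rmul, rmul, hcrσ (φ a)⁻¹, fixW c hcC _ (hstab i) _ (hstab j), hcrσ, back, back]
    rw [memC]
    constructor
    · intro i
      rw [hedef, map_neg, rmul, rmul, hshσ (φ a)⁻¹, fixS c hcC _ (hstab i), hshσ, back]
    · intro i
      fin_cases i
      · change JK ρ _ (Y 0) = Y 0
        rw [hY0]; exact keyc 1 2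
      · change JK ρ _ (Y 1) = Y 1
        rw [hY1]; exact keyc 2 0
      · change JK ρ _ (Y 2) = Y 2
        rw [hY2]; exact keyc 0 1
  -- `C ≠ 1`
  have hC : C ≠ ⊥ := by
    obtain ⟨g, hg1, hga, hgb⟩ := hcs (e 1 - e 2) (Y 0 + Y 1 + Y 2)
    have s12 : sh (e 1 - e 2) = -(q • e 0) := by
      have k1 : e 1 - e 2 = e 1 + (-1 : F) • e 2 := by rw [neg_one_smul, sub_eq_add_neg]
      rw [k1, Jord.sh_add, Jord.sh_smul, hshe, hshe, smul_zero, cr_smul_right, c12, neg_one_smul, zero_add, zero_add]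
    have g0 : JK ρ g (e 0) = e 0 := by
      have k1 := hshσ g (e 1 - e 2)
      rw [hga, s12, map_neg, map_smul, neg_inj] at k1
      have k2 : q • (JK ρ g (e 0) - e 0) = 0 := by rw [smul_sub, k1, sub_self]
      exact sub_eq_zero.1 ((smul_eq_zero.1 k2).resolve_left hq0)
    have gs : JK ρ g (e 1) + JK ρ g (e 2) = e 1 + e 2 := by
      have k1 : JK ρ g (e 0 + e 1 + e 2) = e 0 + e 1 + e 2 := by rw [hesum, map_smul, Inv.u0_inv hρ]
      rw [map_add, map_add, g0, add_assoc, add_assoc] at k1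
      exact add_left_cancel k1
    have gd : JK ρ g (e 1) - JK ρ g (e 2) = e 1 - e 2 := by rw [← map_sub, hga]
    have g1 : JK ρ g (e 1) = e 1 := by
      have k1 : (2 : F) • (JK ρ g (e 1) - e 1) = 0 := by
        calc (2 : F) • (JK ρ g (e 1) - e 1) = (JK ρ g (e 1) + JK ρ g (e 2)) + (JK ρ g (e 1) - JK ρ g (e 2)) -
              (2 : F) • e 1 := by module
          _ = 0 := by rw [gs, gd]; module
      exact sub_eq_zero.1 ((smul_eq_zero.1 k1).resolve_left two_ne)
    have g2 : JK ρ g (e 2) = e 2 := by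
      rw [g1] at gs
      exact add_left_cancel gs
    have ge : ∀ i, JK ρ g (e i) = e i := by
      intro i
      fin_cases i
      · exact g0
      · exact g1
      · exact g2
    have gY : ∀ i, JK ρ g (Y i) = Y i := by
      intro i
      have k1 : cr (e i) (Y 0 + Y 1 + Y 2) = -q • Y i := by
        rw [cr_add_right, cr_add_right]
        fin_cases i
        · change cr (e 0) (Y 0) + cr (e 0) (Y 1) + cr (e 0) (Y 2) = -q • Y 0
          rw [hcreY, hcreYj 0 1 (by decide), hcreYj 0 2 (by decide), add_zero, add_zero]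
        · change cr (e 1) (Y 0) + cr (e 1) (Y 1) + cr (e 1) (Y 2) = -q • Y 1
          rw [hcreY, hcreYj 1 0 (by decide), hcreYj 1 2 (by decide), zero_add, add_zero]
        · change cr (e 2) (Y 0) + cr (e 2) (Y 1) + cr (e 2) (Y 2) = -q • Y 2
          rw [hcreY, hcreYj 2 0 (by decide), hcreYj 2 1 (by decide), zero_add, zero_add]
      have k2 := hcrσ g (e i) (Y 0 + Y 1 + Y 2)
      rw [ge, hgb, k1, map_smul] at k2
      have k3 : (-q) • (JK ρ g (Y i) - Y i) = 0 := by rw [smul_sub, k2, sub_self]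
      exact sub_eq_zero.1 ((smul_eq_zero.1 k3).resolve_left (neg_ne_zero.2 hq0))
    intro h
    have k1 : g ∈ C := ⟨ge, gY⟩
    rw [h, Subgroup.mem_bot] at k1
    exact hg1 k1
  have hrange : ¬ φ.range ≤ C := by
    intro hle
    have h4 := ((memC _).1 (hle ⟨c3, rfl⟩)).1 0
    have h6 : JK ρ (φ c3) (e 0) = e 1 := by
      rw [hedef, map_neg, hshσ, ← hσ, hc.1, ← hedef]
    rw [h6] at h4
    rw [h4, Jord.cr_self, hshe, smul_zero] at c01
    exact he0 2 ((smul_eq_zero.1 c01.symm).resolve_left hq0)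
  have hN : H ≤ Subgroup.normalizer (C : Set ↥(chevF4.group F)) := by
    rw [hHA]
    rintro _ ⟨a, rfl⟩
    rw [Subgroup.mem_normalizer_iff]
    intro c
    refine ⟨fun h => hnorm a c h, fun h => ?_⟩
    have h4 := hnorm a⁻¹ _ h
    rw [map_inv] at h4
    convert h4 using 1
    group
  rcases eq_or_lt_of_le hN with h | h
  · apply hrange
    refine hM.min C ?_ ?_ hC
    · rw [h]; exact Subgroup.le_normalizer
    · intro x hx b hb
      rw [h] at hx
      exact (Subgroup.mem_normalizer_iff.1 hx b).1 hb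
  · have h4 : C.Normal := Subgroup.normalizer_eq_top_iff.1 (hM.coatom.2 _ h)
    rcases h4.eq_bot_or_eq_top with h6 | h6
    · exact hC h6
    · apply hrange
      rw [h6]
      exact le_top

end Cases

end Cfsg.Agent.H952.F4
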